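import Cfsg.Agent.OD.Pre

/-! Fixed-point-free endomorphisms of order three: class at most two. -/

set_option autoImplicit false

namespace CfH2.Fpf3

variable {T : Type*} [Group T]

/-- `σ` has order dividing three and is fixed-point-free. -/
structure IsF (σ : T →* T) : Prop where
  cube : ∀ x, σ (σ (σ x)) = x
  fpf : ∀ x, σ x = x → x = 1

variable [Finite T] {σ : T →* T}

theorem IsF.surj (h : IsF σ) (y : T) : ∃ z, y = z * (σ z)⁻¹ := by
  obtain ⟨z, hz⟩ := MonoidHom.FixedPointFree.commutatorMap_surjective (φ := σ) h.fpf y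
  exact ⟨z, by rw [← hz, MonoidHom.commutatorMap_apply, div_eq_mul_inv]⟩

theorem IsF.norm (h : IsF σ) (x : T) : x * σ x * σ (σ x) = 1 := by
  obtain ⟨z, rfl⟩ := h.surj x
  simp only [map_mul, map_inv, h.cube]
  group

theorem IsF.norm' (h : IsF σ) (y a : T) :
    a * (y * σ a * y⁻¹) * σ (σ (y⁻¹ * a * y)) = 1 := by
  obtain ⟨z, rfl⟩ := h.surj y
  have := h.norm (z⁻¹ * a * z)
  simp only [map_mul, map_inv, h.cube, mul_inv_rev, inv_inv] at this ⊢
  calc _ = z * (z⁻¹ * a * z * ((σ z)⁻¹ * σ a * σ z) * ((σ (σ z))⁻¹ * σ (σ a) * σ (σ z))) * z⁻¹ := by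
        group
    _ = 1 := by rw [this]; group

theorem IsF.comm_conj (h : IsF σ) (y a : T) : Commute a (y * σ a * y⁻¹) := by
  have h1 := h.norm' y a
  have h2 := h.norm' y a⁻¹
  have e : σ (σ (y⁻¹ * a⁻¹ * y)) = (σ (σ (y⁻¹ * a * y)))⁻¹ := by
    rw [← map_inv, ← map_inv]; congr 2; group
  have e2 : y * σ a⁻¹ * y⁻¹ = (y * σ a * y⁻¹)⁻¹ := by rw [map_inv]; group
  rw [e, e2] at h2
  set b := y * σ a * y⁻¹
  set c := σ (σ (y⁻¹ * a * y))
  have h3 : c = (a * b)⁻¹ := eq_inv_of_mul_eq_one_right h1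
  have h4 : c = a⁻¹ * b⁻¹ := (mul_inv_eq_one.mp h2).symm
  have : (a * b)⁻¹ = (b * a)⁻¹ := by rw [← h3, h4]; group
  exact inv_injective this

theorem IsF.comm_conj2 (h : IsF σ) (y a : T) : Commute a (y * σ (σ a) * y⁻¹) := by
  have := h.comm_conj y⁻¹ (σ (σ a))
  rw [h.cube] at this
  have h2 := this.symm.map (MulAut.conj y)
  simp only [MulAut.conj_apply, inv_inv] at h2
  have e : y * (y⁻¹ * a * y) * y⁻¹ = a := by group
  rwa [e] at h2

/-- 2-Engel. -/
theorem IsF.engel (h : IsF σ) (y a : T) : Commute a (y * a * y⁻¹) := by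
  have h1 := h.norm a
  have e : y * a * y⁻¹ = ((y * σ a * y⁻¹) * (y * σ (σ a) * y⁻¹))⁻¹ := by
    have : a = (σ a * σ (σ a))⁻¹ := eq_inv_of_mul_eq_one_left (by rw [← mul_assoc]; exact h1)
    conv_lhs => rw [this]
    group
  rw [e]
  exact ((h.comm_conj y a).mul_right (h.comm_conj2 y a)).inv_right

theorem IsF.comm_sigma (h : IsF σ) (a : T) : Commute a (σ a) := by
  simpa using h.comm_conj 1 a

open scoped commutatorElement in
theorem IsF.comm_sigma_right (h : IsF σ) (y a : T) : ⁅y, σ a⁆ = σ (σ ⁅y, a⁆) := by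
  set b := ⁅y, a⁆ with hb
  have hby : Commute y b := by
    have := (h.engel a y).inv_right
    have e : b = y * (a * y * a⁻¹)⁻¹ := by rw [hb, commutatorElement_def]; group
    rw [e]; exact (Commute.refl y).mul_right this
  have hba : Commute a b := by
    have e : b = (y * a * y⁻¹) * a⁻¹ := by rw [hb, commutatorElement_def]
    rw [e]; exact (h.engel y a).mul_right (Commute.refl a).inv_right
  have e1 : y⁻¹ * a * y = a * b⁻¹ := by
    have : y * a * y⁻¹ = b * a := by rw [hb, commutatorElement_def]; group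
    calc y⁻¹ * a * y = y⁻¹ * (b⁻¹ * (y * a * y⁻¹)) * y := by rw [this]; group
      _ = (y⁻¹ * b⁻¹ * y) * a := by group
      _ = b⁻¹ * a := by rw [hby.inv_inv.eq]; group
      _ = a * b⁻¹ := hba.inv_right.eq.symm
  have h1 := h.norm' y a
  rw [e1] at h1
  have e2 : y * σ a * y⁻¹ = ⁅y, σ a⁆ * σ a := by rw [commutatorElement_def]; group
  have hc : Commute a ⁅y, σ a⁆ := by
    rw [commutatorElement_def]
    exact (h.comm_conj y a).mul_right (h.comm_sigma a).inv_right
  rw [e2, map_mul, map_mul, map_inv, map_inv] at h1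
  have h2 : ⁅y, σ a⁆ * (a * σ a * σ (σ a)) * (σ (σ b))⁻¹ = 1 := by
    rw [← h1, ← mul_assoc a, hc.eq]; group
  rw [h.norm, mul_one, mul_inv_eq_one] at h2
  exact h2

open scoped commutatorElement in
/-- class at most two -/
theorem IsF.class_two (h : IsF σ) (y z a : T) : ⁅y, ⁅z, a⁆⁆ = 1 := by
  have key : ∀ c : T, ⁅y * z, c⁆ = ⁅y, ⁅z, c⁆⁆ * ⁅z, c⁆ * ⁅y, c⁆ := by
    intro c; simp only [commutatorElement_def]; group
  have h1 := h.comm_sigma_right (y * z) a
  rw [key, key, h.comm_sigma_right z a, h.comm_sigma_right y a, h.comm_sigma_right y,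
    h.comm_sigma_right y, h.cube] at h1
  simp only [map_mul] at h1
  have h2 := mul_right_cancel (mul_right_cancel h1)
  have h3 := congrArg (fun w => σ (σ w)) h2
  simp only [h.cube] at h3
  exact h.fpf _ h3.symm

open scoped commutatorElement in
theorem IsF.comm_central (h : IsF σ) (y z a : T) : Commute y ⁅z, a⁆ :=
  commutatorElement_eq_one_iff_commute.mp (h.class_two y z a)

open scoped commutatorElement in
theorem IsF.comm_sigma_left (h : IsF σ) (y a : T) : ⁅σ y, a⁆ = σ (σ ⁅y, a⁆) := by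
  rw [← commutatorElement_inv, h.comm_sigma_right, ← map_inv, ← map_inv, commutatorElement_inv]

end CfH2.Fpf3
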