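import Cfsg.Agent.H3.M24
import Cfsg.Agent.H9.Invert

/-! An element of odd prime order of `M₂₄` normalises no Sylow 2-subgroup. -/

set_option autoImplicit false
set_option maxRecDepth 100000

open Subgroup CfH9 CfH6 Cfsg MulAction CfH3.M24 CfH3.He

namespace CfH2.M24S

abbrev Pm := Equiv.Perm GolayPt

def lab (p : GolayPt) : ℕ :=
  [0, 2, 4, 6, 8, 16, 24, 10, 20, 26, 12, 25, 14, 28, 18, 21, 22, 19, 29, 23, 30, 31, 27, 17].getD
    (ix p) 0

/-- the stabiliser of a binary tree on the points -/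
def tree : Subgroup Pm where
  carrier := {g | (∀ x, lab (g x) / 16 = lab x / 16) ∧
    ∀ j < 4, ∀ x y, lab (g x) / 2 ^ j = lab (g y) / 2 ^ j ↔ lab x / 2 ^ j = lab y / 2 ^ j}
  mul_mem' ha hb := ⟨fun x => (ha.1 _).trans (hb.1 x), fun j hj x y =>
    (ha.2 j hj _ _).trans (hb.2 j hj x y)⟩
  one_mem' := ⟨fun _ => rfl, fun _ _ _ _ => Iff.rfl⟩
  inv_mem' {g} ha := ⟨fun x => by simpa using (ha.1 (g⁻¹ x)).symm, fun j hj x y => by
    simpa using (ha.2 j hj (g⁻¹ x) (g⁻¹ y)).symm⟩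

theorem tree_pgrp : IsPGroup 2 tree := by
  refine isPGroup_iff_mem.2 fun g hg => ⟨4, ?_⟩
  have st : ∀ j < 4, ∀ h ∈ tree, (∀ x, lab (h x) / 2 ^ (j + 1) = lab x / 2 ^ (j + 1)) →
      ∀ x, lab ((h * h) x) / 2 ^ j = lab x / 2 ^ j := fun j hj h hh e x => by
    have h1 := hh.2 j hj x (h x)
    have h2 := e x
    have h3 := e (h x)
    rw [pow_succ, ← Nat.div_div_eq_div_mul, ← Nat.div_div_eq_div_mul] at h2 h3
    rw [Equiv.Perm.mul_apply]
    omega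
  have h1 := st 3 (by norm_num) g hg hg.1
  have h2 := st 2 (by norm_num) _ (mul_mem hg hg) h1
  have h3 := st 1 (by norm_num) _ (mul_mem (mul_mem hg hg) (mul_mem hg hg)) h2
  have h4 := st 0 (by norm_num) _ (mul_mem (mul_mem (mul_mem hg hg) (mul_mem hg hg))
    (mul_mem (mul_mem hg hg) (mul_mem hg hg))) h3
  have inj : ∀ x y, lab x = lab y → x = y := by decide +kernel
  refine Equiv.ext fun x => inj _ _ ?_
  have := h4 x
  simp only [← pow_two, ← pow_mul, pow_zero, Nat.div_one] at this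
  exact this

def ql : List (List ℕ) := [[0, 1, 2, 3, 4, 6, 5, 7, 18, 14, 10, 23, 12, 15, 9, 13, 21, 22, 8, 20, 19, 16, 17, 11], [0, 1, 2, 3, 4, 8, 18, 7, 5, 20, 10, 13, 12, 11, 19, 23, 17, 16, 6, 14, 9, 22, 21, 15], [0, 1, 2, 3, 4, 9, 14, 7, 20, 5, 10, 17, 12, 16, 6, 21, 13, 11, 19, 18, 8, 15, 23, 22], [0, 1, 2, 3, 4, 11, 23, 7, 13, 17, 10, 5, 12, 8, 22, 18, 20, 9, 15, 21, 16, 19, 14, 6], [1, 0, 3, 2, 7, 5, 11, 4, 8, 22, 12, 6, 10, 18, 14, 15, 16, 17, 13, 19, 21, 20, 9, 23], [2, 3, 0, 1, 10, 5, 6, 12, 15, 9, 4, 11, 7, 18, 14, 8, 19, 17, 13, 16, 21, 20, 22, 23], [4, 7, 10, 12, 0, 5, 6, 1, 8, 22, 2, 11, 3, 13, 17, 15, 19, 14, 18, 16, 21, 20, 9, 23], [0, 1, 3, 2, 7, 5, 20, 4, 15, 13, 10, 21, 12, 9, 17, 8, 16, 14, 22, 19, 6, 11, 18, 23], [0, 1, 2, 3, 10, 5, 11, 12, 19, 22, 4, 6, 7, 20, 14, 16, 15, 17, 21, 8, 13, 18, 9, 23], [0, 1, 2, 3, 7, 5, 22, 4, 15, 11, 12, 9, 10, 21, 14, 8, 19, 17,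 20, 16, 18, 13, 6, 23]]

def qf (i : ℕ) (p : GolayPt) : GolayPt := pt ((ql.getD i []).getD (ix p) (ix p))

theorem qf_inv : ∀ i : Fin 11, Function.Involutive (qf i) := by
  unfold Function.Involutive; decide +kernel

def qe (i : Fin 11) : Pm := (qf_inv i).toPerm

noncomputable def img (i w : ℕ) : ℕ :=
  ct (fun k => cond (w.testBit ((ql.getD i []).getD k k)) (2 ^ k) 0) 24

theorem qe_mem (i : Fin 11) : qe i ∈ M24 ⊓ tree := by
  refine mi (mem_M24 (Equiv.ext (qf_inv i)) fun w hw => ⟨img i w, ?_⟩) ?_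
  · have : ∀ i : Fin 11, ∀ w ∈ gw, isC (img i w) = true ∧
        ∀ p, w.testBit (ix (qf i p)) = (img i w).testBit (ix p) := by decide +kernel
    exact ⟨(this i w hw).1, funext fun p => congrArg bz ((this i w hw).2 p)⟩
  · have : ∀ i : Fin 11, (∀ x, lab (qf i x) / 16 = lab x / 16) ∧ ∀ j < 4, ∀ x y,
        lab (qf i x) / 2 ^ j = lab (qf i y) / 2 ^ j ↔ lab x / 2 ^ j = lab y / 2 ^ j := by
      decide +kernel
    exact this i

open Classical in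
/-- the orbit as a finite set -/
noncomputable def orb (T : Subgroup Pm) (x : GolayPt) : Finset GolayPt :=
  Finset.univ.filter fun y => ∃ s ∈ T, s x = y

theorem mem_orb {T : Subgroup Pm} {x y : GolayPt} : y ∈ orb T x ↔ ∃ s ∈ T, s x = y := by
  simp [orb]

theorem orb_card {T : Subgroup Pm} (h : IsPGroup 2 T) (x : GolayPt) :
    ∃ k, (orb T x).card = 2 ^ k := by
  obtain ⟨k, hk⟩ := h.card_orbit x
  refine ⟨k, hk ▸ ?_⟩
  rw [← Nat.card_eq_finsetCard]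
  exact Nat.card_congr (Equiv.subtypeEquivRight fun y => mem_orb.trans
    ⟨fun ⟨s, hs, e⟩ => ⟨⟨s, hs⟩, e⟩, fun ⟨s, e⟩ => ⟨s, s.2, e⟩⟩)

theorem orb_nm {T : Subgroup Pm} {g : Pm} (h : g ∈ Nm(T)) (x : GolayPt) :
    (orb T (g x)).card = (orb T x).card := by
  classical
  rw [← Finset.card_image_of_injective (orb T x) g.injective]
  congr 1
  ext y
  simp only [Finset.mem_image, mem_orb]
  exact ⟨fun ⟨s, hs, e⟩ => ⟨_, ⟨_, conj_mem_of_mem_normalizer' h hs, rfl⟩, by simpa using e⟩,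
    fun ⟨_, ⟨s, hs, rfl⟩, e⟩ => ⟨_, conj_mem_of_mem_normalizer h hs, by simpa using e⟩⟩

theorem orb_mul {T : Subgroup Pm} {x y : GolayPt} {s : Pm} (hs : s ∈ T) (h : y ∈ orb T x) :
    s y ∈ orb T x :=
  let ⟨t, ht, e⟩ := mem_orb.1 h; mem_orb.2 ⟨s * t, mul_mem hs ht, by rw [← e]; rfl⟩

theorem to0 : ∀ x, lab x / 16 = 0 → ∃ u ∈ M24 ⊓ tree, u x = pt 0 := fun x hx => by
  have : ∀ x, lab x / 16 = 0 → ∃ i ∈ [4, 10], ∃ j ∈ [5, 10], ∃ k ∈ [6, 10],
      qe i (qe j (qe k x)) = pt 0 := by decide +kernel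
  obtain ⟨i, -, j, -, k, -, e⟩ := this x hx
  exact ⟨_, mul_mem (qe_mem i) (mul_mem (qe_mem j) (qe_mem k)), e⟩

theorem to5 : ∀ x, lab x / 16 ≠ 0 → ∃ u ∈ M24 ⊓ tree, u x = pt 5 := fun x hx => by
  have : ∀ x, lab x / 16 ≠ 0 → ∃ i ∈ [0, 10], ∃ j ∈ [1, 10], ∃ k ∈ [2, 10], ∃ l ∈ [3, 10],
      qe i (qe j (qe k (qe l x))) = pt 5 := by decide +kernel
  obtain ⟨i, -, j, -, k, -, l, -, e⟩ := this x hx
  exact ⟨_, mul_mem (qe_mem i) (mul_mem (qe_mem j) (mul_mem (qe_mem k) (qe_mem l))), e⟩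

def cl (x : GolayPt) : ℕ := if lab x < 4 then 1 else if lab x < 8 then 2 else 4

def sel (a b c : Bool) : Finset GolayPt :=
  Finset.univ.filter fun y => lab y / 16 = 0 ∧ y ≠ pt 0 ∧
    (if lab y < 4 then a else if lab y < 8 then b else c) = true

variable {S : Subgroup Pm} (hS : IsPGroup 2 S) (h0 : M24 ⊓ tree ≤ S)
include hS h0

theorem pres {s : Pm} (hs : s ∈ S) (x : GolayPt) : lab (s x) / 16 = 0 ↔ lab x / 16 = 0 := by
  have key : ∀ s ∈ S, ∀ x, lab x / 16 = 0 → lab (s x) / 16 = 0 := fun s hs x hx => by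
    by_contra hy
    obtain ⟨k, hk⟩ := orb_card hS x
    have h1 : ∀ y z, (lab y / 16 = 0 ↔ lab z / 16 = 0) → y ∈ orb S x → z ∈ orb S x :=
      fun y z e hy => by
        obtain ⟨u, hu, v, hv, e1⟩ : ∃ u ∈ M24 ⊓ tree, ∃ v ∈ M24 ⊓ tree, u y = v z := by
          by_cases e1 : lab y / 16 = 0
          · obtain ⟨u, hu, e2⟩ := to0 y e1
            obtain ⟨v, hv, e3⟩ := to0 z (e.1 e1)
            exact ⟨u, hu, v, hv, e2.trans e3.symm⟩
          · obtain ⟨u, hu, e2⟩ := to5 y e1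
            obtain ⟨v, hv, e3⟩ := to5 z (e.not.1 e1)
            exact ⟨u, hu, v, hv, e2.trans e3.symm⟩
        simpa [e1] using orb_mul (h0 (mul_mem (inv_mem hv) hu)) hy
    rw [show orb S x = Finset.univ from Finset.eq_univ_of_forall fun z => by
      by_cases e : lab z / 16 = 0
      · exact h1 x z (iff_of_true hx e) (mem_orb.2 ⟨1, one_mem _, rfl⟩)
      · exact h1 (s x) z (iff_of_false hy e) (mem_orb.2 ⟨s, hs, rfl⟩)] at hk
    exact absurd (Nat.prime_three.dvd_of_dvd_pow (m := 2) (n := k) (by rw [← hk]; decide +kernel))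
      (by decide)
  exact ⟨fun e => by simpa using key _ (inv_mem hs) _ e, key s hs x⟩

theorem orb_S (x : GolayPt) : (orb S x).card = if lab x / 16 = 0 then 8 else 16 := by
  have : orb S x = Finset.univ.filter fun y => lab y / 16 = 0 ↔ lab x / 16 = 0 := by
    ext y
    rw [mem_orb, Finset.mem_filter]
    refine ⟨fun ⟨s, hs, e⟩ => ⟨Finset.mem_univ _, e ▸ pres hS h0 hs x⟩, fun e => ?_⟩
    by_cases e1 : lab x / 16 = 0
    · obtain ⟨u, hu, e2⟩ := to0 x e1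
      obtain ⟨v, hv, e3⟩ := to0 y (e.2.2 e1)
      exact ⟨_, h0 (mul_mem (inv_mem hv) hu), by simp [e2, ← e3]⟩
    · obtain ⟨u, hu, e2⟩ := to5 x e1
      obtain ⟨v, hv, e3⟩ := to5 y (e.2.not.2 e1)
      exact ⟨_, h0 (mul_mem (inv_mem hv) hu), by simp [e2, ← e3]⟩
  rw [this]
  clear this
  revert x
  decide +kernel

theorem pres_nm {g : Pm} (hg : g ∈ Nm(S)) (x : GolayPt) : lab (g x) / 16 = 0 ↔ lab x / 16 = 0 := by
  have := orb_nm hg x
  rw [orb_S hS h0, orb_S hS h0] at this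
  split_ifs at this <;> omega

theorem orb_S0 (x : GolayPt) (hx : lab x / 16 = 0) (x0 : x ≠ pt 0) :
    (orb (S ⊓ stabilizer Pm (pt 0)) x).card = cl x := by
  classical
  have key : ∀ a b c : Bool, ∀ k < 3, (sel a b c).card = 2 ^ k → ∀ x ∈ sel a b c,
      (sel a b c).card = cl x := by decide +kernel
  have h1 : ∀ y ∈ orb (S ⊓ stabilizer Pm (pt 0)) x, lab y / 16 = 0 ∧ y ≠ pt 0 := fun y hy => by
    obtain ⟨s, hs, rfl⟩ := mem_orb.1 hy
    exact ⟨(pres hS h0 hs.1 x).2 hx, fun e => x0 (s.injective (e.trans hs.2.symm))⟩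
  obtain ⟨k, hk⟩ := orb_card (hS.to_le (inf_le_left : S ⊓ stabilizer Pm (pt 0) ≤ S)) x
  have h7 : qe 7 ∈ S ⊓ stabilizer Pm (pt 0) := mi (h0 (qe_mem 7)) (by decide +kernel)
  have h8 : qe 8 ∈ S ⊓ stabilizer Pm (pt 0) := mi (h0 (qe_mem 8)) (by decide +kernel)
  have hx' : x ∈ orb (S ⊓ stabilizer Pm (pt 0)) x := mem_orb.2 ⟨1, one_mem _, rfl⟩
  have h2 : ∀ y, (qe 7 y ∈ orb (S ⊓ stabilizer Pm (pt 0)) x ↔ y ∈ orb (S ⊓ stabilizer Pm (pt 0)) x) ∧
      (qe 8 y ∈ orb (S ⊓ stabilizer Pm (pt 0)) x ↔ y ∈ orb (S ⊓ stabilizer Pm (pt 0)) x) := fun y =>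
    ⟨⟨fun e => by simpa using orb_mul (inv_mem h7) e, orb_mul h7⟩,
      ⟨fun e => by simpa using orb_mul (inv_mem h8) e, orb_mul h8⟩⟩
  generalize orb (S ⊓ stabilizer Pm (pt 0)) x = F at *
  have h3 : F = sel (decide (pt 1 ∈ F)) (decide (pt 2 ∈ F)) (decide (pt 4 ∈ F)) := by
    ext y
    have h4 : ∀ y : GolayPt, ∀ a b c : Bool, (y ∈ sel a b c → lab y / 16 = 0 ∧ y ≠ pt 0) ∧
        (lab y / 16 = 0 ∧ y ≠ pt 0 → (y = pt 1 ∧ (y ∈ sel a b c ↔ a = true)) ∨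
        ((y = pt 2 ∨ y = qe 7 (pt 2)) ∧ (y ∈ sel a b c ↔ b = true)) ∨
        ((y = pt 4 ∨ y = qe 7 (pt 4) ∨ y = qe 8 (pt 4) ∨ y = qe 8 (qe 7 (pt 4))) ∧
          (y ∈ sel a b c ↔ c = true))) := by decide +kernel
    by_cases e : lab y / 16 = 0 ∧ y ≠ pt 0
    · rcases (h4 y (decide (pt 1 ∈ F)) (decide (pt 2 ∈ F)) (decide (pt 4 ∈ F))).2 e with
        ⟨rfl, e1⟩ | ⟨rfl | rfl, e1⟩ | ⟨rfl | rfl | rfl | rfl, e1⟩ <;>
        simp only [e1, decide_eq_true_eq, h2]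
    · exact iff_of_false (fun e1 => e (h1 y e1)) fun e1 => e ((h4 y _ _ _).1 e1)
  rw [h3] at hk hx' ⊢
  refine key _ _ _ k ((Nat.pow_lt_pow_iff_right one_lt_two).1 ?_) hk x hx'
  have : ∀ a b c : Bool, (sel a b c).card < 2 ^ 3 := by decide +kernel
  exact hk ▸ this _ _ _

theorem fix_tet {g : Pm} (hg : g ∈ Nm(S)) (ho : Odd (orderOf g)) {x y : GolayPt}
    (hx : lab x / 16 = 0) (gx : g x = x) (hy : lab y / 8 = lab x / 8) : g y = y := by
  have key : ∀ g ∈ Nm(S), Odd (orderOf g) → g (pt 0) = pt 0 → ∀ y, lab y / 8 = 0 → g y = y :=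
    fun g hg ho g0 y hy => by
      have hn : g ∈ Nm(S ⊓ stabilizer Pm (pt 0)) :=
        mem_Nm_inf hg (le_normalizer (show g ∈ stabilizer Pm (pt 0) from g0))
      have h1 : ∀ y, lab y / 16 = 0 → y ≠ pt 0 → (lab (g y) / 16 = 0 ∧ g y ≠ pt 0) ∧
          cl (g y) = cl y := fun y h1 h2 => by
        have h3 := (pres_nm hS h0 hg y).2 h1
        have h4 : g y ≠ pt 0 := fun e => h2 (g.injective (e.trans g0.symm))
        exact ⟨⟨h3, h4⟩, by rw [← orb_S0 hS h0 _ h1 h2, ← orb_S0 hS h0 _ h3 h4, orb_nm hn]⟩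
      have h2 : ∀ y : GolayPt, lab y / 8 = 0 → y ≠ pt 0 → ∀ z : GolayPt, (lab z / 16 = 0 ∧ z ≠ pt 0) ∧
          cl z = cl y → ∀ w : GolayPt, (lab w / 16 = 0 ∧ w ≠ pt 0) ∧ cl w = cl z →
          (y = z ↔ z = w) → w = y := by
        decide +kernel
      by_cases y0 : y = pt 0
      · rw [y0, g0]
      have h3 := h1 y (by omega) y0
      have h4 := h2 y hy y0 _ h3 _ (h1 _ h3.1.1 h3.1.2) g.injective.eq_iff.symm
      exact mem_of_sq_mem (H := stabilizer Pm y) ho h4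
  obtain ⟨u, hu, e⟩ := to0 x hx
  have := key (u * g * u⁻¹) (mul_mem (mul_mem (le_normalizer (h0 hu)) hg)
    (inv_mem (le_normalizer (h0 hu)))) (by rwa [← MulAut.conj_apply, MulEquiv.orderOf_eq]) (by simp [← e, gx]) (u y) (by
      have := (hu.2.2 3 (by norm_num) y x).2 hy
      rw [e] at this
      exact this)
  simpa using this

theorem eq_one {g : Pm} (hM : g ∈ M24) (hg : g ∈ Nm(S)) {p : ℕ} (hp : p.Prime) (h2 : p ≠ 2)
    (e : orderOf g = p) : g = 1 := by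
  have : Fact p.Prime := ⟨hp⟩
  have ho : Odd (orderOf g) := e ▸ hp.odd_of_ne_two h2
  have fp : ∀ (P : GolayPt → Prop) [DecidablePred P] (k : ℕ), Fintype.card {x // P x} = 2 ^ k →
      (∀ x, P (g x) ↔ P x) → ∃ x, P x ∧ g x = x := fun P _ k h3 h4 => by
    obtain ⟨x, hx⟩ := Equiv.Perm.exists_fixed_point_of_prime (p := p) (n := 1)
      (fun e => h2 ((Nat.prime_dvd_prime_iff_eq hp Nat.prime_two).1 (hp.dvd_of_dvd_pow (h3 ▸ e))))
      (σ := g.subtypePerm h4) (by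
        rw [Equiv.Perm.subtypePerm_pow]
        ext x
        simp [← e])
    exact ⟨x, x.2, congrArg Subtype.val hx⟩
  obtain ⟨a, ha, ga⟩ := fp (fun x => lab x / 16 = 0) 3 (by decide +kernel) (pres_nm hS h0 hg)
  have h3 : ∀ a, lab a / 16 = 0 →
      Fintype.card {x // lab x / 16 = 0 ∧ lab x / 8 ≠ lab a / 8} = 2 ^ 2 := by decide +kernel
  have h4 : ∀ y, lab y / 8 = lab a / 8 → g y = y := fun y => fix_tet hS h0 hg ho ha ga
  obtain ⟨b, hb, gb⟩ := fp _ 2 (h3 a ha) fun x => and_congr (pres_nm hS h0 hg x) (not_congr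
    ⟨fun e => by rwa [g.injective (h4 _ e)] at e, fun e => by rwa [h4 x e]⟩)
  have h5 : ∀ y, lab y / 16 = 0 → g y = y := fun y hy => by
    by_cases e : lab y / 8 = lab a / 8
    · exact h4 y e
    · exact fix_tet hS h0 hg ho hb.1 gb (by have := hb.1; have := hb.2; omega)
  obtain ⟨c, hc, gc⟩ := fp (fun x => lab x / 16 ≠ 0) 4 (by decide +kernel)
    fun x => (pres_nm hS h0 hg x).not
  obtain ⟨u, hu, e1⟩ := to5 c hc
  have := stp_ok (mul_mem (mul_mem hu.1 hM) (inv_mem hu.1)) [(11, 10558, 133817), (10, 5279, 298027), (12, 5279, 5279), (8, 10558, 36294), (13, 10558, 10558), (6, 18147, 36294), (9, 18147, 69395), (14, 18147, 18147), (15, 36294, 36294), (16, 69395, 69395), (17, 133817, 133817), (18, 262637, 262637), (19, 525274, 525274), (20, 1050548, 1050548), (21, 2101096, 2101096), (22, 4196943, 4196943), (23, 8391797, 8391797)] 191 (fun x hx => by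
    have h6 : ∀ x, Nat.testBit 191 (ix x) = true → x = pt 5 ∨ lab x / 16 = 0 := by decide +kernel
    rcases h6 x hx with rfl | h7
    · simp [← e1, gc]
    · rw [Equiv.Perm.mul_apply, Equiv.Perm.mul_apply, h5 _ (((inv_mem hu).2.1 x).trans h7)]
      simp) (by decide +kernel)
  simpa [mul_inv_eq_one] using this

end CfH2.M24S
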