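import Cfsg.Agent.OD.Pre
import Cfsg.Agent.H4.UniqInv
import Cfsg.Agent.H8.Coprime2
import Cfsg.Agent.H1.Frattini
import Cfsg.Agent.H9.Basic2

set_option autoImplicit false
open Cfsg CfH9 Subgroup CfH5

namespace CfH2
namespace Q8E

variable {W : Type*} [Group W]

/-- common fixed points of a group of automorphisms -/
def Fx (E : Subgroup (MulAut W)) : Subgroup W where
  carrier := {x | ∀ e ∈ E, e x = x}
  mul_mem' := fun {a b} ha hb e he => by rw [map_mul, ha e he, hb e he]
  one_mem' := fun e _ => map_one e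
  inv_mem' := fun {a} ha e he => by rw [map_inv, ha e he]

/-- fixed points of one automorphism -/
def F1 (e : MulAut W) : Subgroup W where
  carrier := {x | e x = x}
  mul_mem' := fun {a b} (ha : e a = a) (hb : e b = b) => by
    change e (a * b) = a * b
    rw [map_mul, ha, hb]
  one_mem' := map_one e
  inv_mem' := fun {a} (ha : e a = a) => by
    change e a⁻¹ = a⁻¹
    rw [map_inv, ha]

theorem mem_Fx {E : Subgroup (MulAut W)} {x : W} : x ∈ Fx E ↔ ∀ e ∈ E, e x = x := Iff.rfl
theorem mem_F1 {e : MulAut W} {x : W} : x ∈ F1 e ↔ e x = x := Iff.rfl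

/-- invariant subgroup -/
def Inv (E : Subgroup (MulAut W)) (U : Subgroup W) : Prop := ∀ e ∈ E, ∀ x ∈ U, e x ∈ U

theorem Inv.mono {E E' : Subgroup (MulAut W)} {U : Subgroup W} (h : Inv E U) (h' : E' ≤ E) :
    Inv E' U := fun e he => h e (h' he)

theorem Inv.inf {E : Subgroup (MulAut W)} {U V : Subgroup W} (h : Inv E U) (h' : Inv E V) :
    Inv E (U ⊓ V) := fun e he x hx => ⟨h e he x hx.1, h' e he x hx.2⟩

theorem inv_F1 {E : Subgroup (MulAut W)} (hab : IsMulCommutative E) {e : MulAut W} (he : e ∈ E) :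
    Inv E (F1 e) := by
  intro f hf x hx
  have h1 : e * f = f * e := congrArg Subtype.val (hab.1.1 ⟨e, he⟩ ⟨f, hf⟩)
  rw [mem_F1] at hx ⊢
  rw [← MulAut.mul_apply, h1, MulAut.mul_apply, hx]

theorem F1_inv (e : MulAut W) : F1 e⁻¹ = F1 e := by
  ext x
  rw [mem_F1, mem_F1]
  constructor
  · intro h
    conv_lhs => rw [← h]
    exact MulAut.apply_inv_self W e x
  · intro h
    conv_lhs => rw [← h]
    exact MulAut.inv_apply_self W e x

variable [Finite W] {p : ℕ} [Fact p.Prime] {E : Subgroup (MulAut W)}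

theorem card_modEq (hE : IsPGroup p E) {U : Subgroup W} (hU : Inv E U) :
    Nat.card U ≡ Nat.card (U ⊓ Fx E : Subgroup W) [MOD p] := by
  let S : SubMulAction E W := ⟨U, fun c x hx => hU c c.2 x hx⟩
  have h1 := hE.card_modEq_card_fixedPoints S
  have h2 : Nat.card (MulAction.fixedPoints E S) = Nat.card (U ⊓ Fx E : Subgroup W) := by
    refine Nat.card_congr ⟨fun x => ⟨x.1.1, x.1.2, fun e he => ?_⟩,
      fun x => ⟨⟨x.1, x.2.1⟩, fun e => Subtype.ext (x.2.2 e e.2)⟩, fun x => rfl, fun x => rfl⟩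
    exact congrArg Subtype.val (x.2 ⟨e, he⟩)
  rw [h2] at h1
  exact h1

/-- an invariant subgroup centralized on a subgroup of index at most two is centralized -/
theorem le_Fx_of_index (hW : IsPGroup 2 W) (hp : p ≠ 2) (hE : IsPGroup p E) {Q U : Subgroup W}
    (hQ : Inv E Q) (hU : U ≤ Q ⊓ Fx E) (hc : Nat.card Q ≤ 2 * Nat.card U) : Q ≤ Fx E := by
  have h1 := card_modEq hE hQ
  obtain ⟨m, hm⟩ := card_dvd_of_le (inf_le_left : Q ⊓ Fx E ≤ Q)
  have h2 : Nat.card U ≤ Nat.card (Q ⊓ Fx E : Subgroup W) := card_le_of_le hU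
  have h3 : 0 < Nat.card (Q ⊓ Fx E : Subgroup W) := Nat.card_pos
  have h4 : 0 < Nat.card Q := Nat.card_pos
  have h5 : m ≤ 2 := by
    by_contra h
    have : 3 ≤ m := by omega
    nlinarith
  have h6 : m ≠ 0 := by rintro rfl; omega
  have h7 : m = 1 ∨ m = 2 := by omega
  rcases h7 with rfl | rfl
  · have := eq_of_le_of_card_ge (inf_le_left : Q ⊓ Fx E ≤ Q) (by omega)
    exact this.ge.trans inf_le_right
  · exfalso
    rw [hm] at h1
    have h8 : p ∣ Nat.card (Q ⊓ Fx E : Subgroup W) := by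
      have := (Nat.modEq_iff_dvd' (by omega)).1 h1.symm
      have e : Nat.card (Q ⊓ Fx E : Subgroup W) * 2 - Nat.card (Q ⊓ Fx E : Subgroup W) =
        Nat.card (Q ⊓ Fx E : Subgroup W) := by omega
      rwa [e] at this
    obtain ⟨n, hn⟩ := (hW.to_subgroup (Q ⊓ Fx E)).exists_card_eq
    rw [hn] at h8
    exact hp ((Nat.prime_dvd_prime_iff_eq Fact.out Nat.prime_two).1
      ((Fact.out : p.Prime).dvd_of_dvd_pow h8))

theorem fixed_of_zpowers (hW : IsPGroup 2 W) (hp : p ≠ 2) (hE : IsPGroup p E) (n : ℕ) :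
    ∀ x : W, orderOf x ≤ n → (∀ e ∈ E, e x ∈ zpowers x) → x ∈ Fx E := by
  induction n with
  | zero => intro x hx; exact absurd hx (by have := orderOf_pos x; omega)
  | succ n ih =>
    intro x hx h
    by_cases h1 : x = 1
    · rw [h1]; exact one_mem _
    obtain ⟨k, hk⟩ := IsPGroup.iff_orderOf.1 hW x
    have hk0 : k ≠ 0 := by
      rintro rfl
      exact h1 (orderOf_eq_one_iff.1 (by simpa using hk))
    obtain ⟨k, rfl⟩ := Nat.exists_eq_succ_of_ne_zero hk0
    have h2 : orderOf (x ^ 2) = 2 ^ k := by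
      rw [orderOf_pow_of_dvd (by norm_num) (by rw [hk]; exact dvd_pow_self 2 (by omega)), hk,
        pow_succ]
      omega
    have h3 : x ^ 2 ∈ Fx E := by
      refine ih _ (by rw [h2]; rw [hk, pow_succ] at hx; have := Nat.two_pow_pos k; omega) ?_
      intro e he
      obtain ⟨j, hj⟩ := mem_zpowers_iff.1 (h e he)
      refine mem_zpowers_iff.2 ⟨j, ?_⟩
      rw [map_pow, ← hj, ← zpow_natCast, ← zpow_natCast, ← zpow_mul, ← zpow_mul, mul_comm]
    have h4 : Inv E (zpowers x) := by
      intro e he y hy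
      obtain ⟨j, rfl⟩ := mem_zpowers_iff.1 hy
      rw [map_zpow]
      exact zpow_mem (h e he) j
    refine le_Fx_of_index hW hp hE h4 (U := zpowers (x ^ 2)) ?_ ?_ (mem_zpowers x)
    · exact zpowers_le.2 ⟨pow_mem (mem_zpowers x) 2, h3⟩
    · rw [Nat.card_zpowers, Nat.card_zpowers, h2, hk, pow_succ]; omega

theorem le_Fx_of_isCyclic (hW : IsPGroup 2 W) (hp : p ≠ 2) (hE : IsPGroup p E) {Q : Subgroup W}
    (hQ : Inv E Q) (hc : IsCyclic Q) : Q ≤ Fx E := by
  obtain ⟨x, hx⟩ := (Subgroup.isCyclic_iff_exists_zpowers_eq_top Q).1 hc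
  subst hx
  exact zpowers_le.2 (fixed_of_zpowers hW hp hE _ x le_rfl fun e he => hQ e he x (mem_zpowers x))

/-- generation by the fixed points of the nonidentity elements -/
theorem le_of_F1 (hW : IsPGroup 2 W) (hp : p ≠ 2) (hE : IsPGroup p E) (hab : IsMulCommutative E)
    (hnc : ¬ IsCyclic E) {D V : Subgroup W} (hD : Inv E D)
    (h : ∀ e ∈ E, e ≠ 1 → D ⊓ F1 e ≤ V) : D ≤ V := by
  let G := W ⋊[MonoidHom.id (MulAut W)] MulAut W
  have : Finite G := Finite.of_equiv _ SemidirectProduct.equivProd.symm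
  let i : W →* G := SemidirectProduct.inl
  let j : MulAut W →* G := SemidirectProduct.inr
  have hi : Function.Injective i := SemidirectProduct.inl_injective
  have hj : Function.Injective j := SemidirectProduct.inr_injective
  have hc : ∀ (e : MulAut W) (x : W), j e * i x * (j e)⁻¹ = i (e x) := fun e x => by
    have := SemidirectProduct.inl_aut (φ := MonoidHom.id (MulAut W)) e x
    rw [← map_inv]
    exact this.symm
  have key : D.map i ≤ V.map i := by
    refine CfH8.le_of_noncyclic (A := E.map j) inferInstance ?_ ?_ ?_ ?_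
    · rintro _ ⟨e, he, rfl⟩
      refine mem_normalizer_fintype ?_
      rintro _ ⟨x, hx, rfl⟩
      rw [hc]
      exact ⟨_, hD e he x hx, rfl⟩
    · rw [card_map_of_injective hi, card_map_of_injective hj]
      obtain ⟨a, ha⟩ := hE.exists_card_eq
      obtain ⟨b, hb⟩ := (hW.to_subgroup D).exists_card_eq
      rw [ha, hb]
      exact Nat.Coprime.pow _ _ ((Nat.coprime_primes Fact.out Nat.prime_two).2 hp)
    · intro hcy
      exact hnc (isCyclic_of_surjective (E.equivMapOfInjective j hj).symm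
        (E.equivMapOfInjective j hj).symm.surjective)
    · rintro _ ⟨e, he, rfl⟩ h1 _ ⟨⟨x, hx, rfl⟩, h2⟩
      have h3 : e ≠ 1 := fun h' => h1 (by rw [h', map_one])
      refine ⟨x, h e he h3 ⟨hx, ?_⟩, rfl⟩
      have h4 : i x * j e = j e * i x := mem_Cx.1 h2
      have h5 := hc e x
      rw [← h4, mul_inv_cancel_right] at h5
      exact (hi h5).symm
  exact (map_le_map_iff_of_injective hi).1 key

end Q8E
end CfH2
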