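import Cfsg.Agent.H2.Q8Ea

set_option autoImplicit false
open Cfsg CfH9 Subgroup CfH5
open scoped commutatorElement

namespace CfH2
namespace Q8E

variable {W : Type*} [Group W] [Finite W] {p : ℕ} [Fact p.Prime] {E : Subgroup (MulAut W)}

omit [Finite W] in
theorem card_qData {S : Subgroup W} {m : ℕ} {x y : W} (h : QData S m x y) :
    Nat.card S = 2 * orderOf x := by
  have h1 : (zpowers x).relIndex S = 2 := by
    rw [relIndex_eq_two_iff]
    refine ⟨y⁻¹, inv_mem h.y_mem, fun s hs => ?_⟩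
    rcases h.mem s hs with h2 | h2
    · refine Or.inr ⟨h2, fun h3 => h.y_not ?_⟩
      have := mul_mem (inv_mem h3) h2
      simpa using this
    · refine Or.inl ⟨h2, fun h3 => h.y_not ?_⟩
      have := mul_mem (inv_mem h2) h3
      simpa using this
  have h2 := card_mul_relIndex h.zpowers_le
  rw [h1, Nat.card_zpowers] at h2
  omega

theorem dich (hW : IsPGroup 2 W) (hp : p ≠ 2) (hE : IsPGroup p E) {Q : Subgroup W} (hQ : Inv E Q)
    (hu : ∀ a ∈ Q, ∀ b ∈ Q, orderOf a = 2 → orderOf b = 2 → a = b) :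
    Q ≤ Fx E ∨ (Nat.card Q = 8 ∧ Nat.card (Q ⊓ Fx E : Subgroup W) = 2 ∧
      (∀ s ∈ Q, s ∉ Fx E → 4 ≤ orderOf s) ∧ ∃ a ∈ Q, ∃ b ∈ Q, a * b ≠ b * a) := by
  rcases CfH4.cyclic_or_qData (hW.to_subgroup Q) hu with hc | ⟨n, x, y, h⟩
  · exact Or.inl (le_Fx_of_isCyclic hW hp hE hQ hc)
  have hm : (2 : ℕ) ^ (n + 1) ≠ 0 := by positivity
  have hc := card_qData h
  by_cases hn : n = 0
  · subst hn
    have hx : orderOf x = 4 := by rw [h.ox]; norm_num
    by_cases hF : Q ≤ Fx E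
    · exact Or.inl hF
    have hz : orderOf (x ^ 2) = 2 := by rw [h.orderOf_sq hm]; norm_num
    have hzQ : x ^ 2 ∈ Q := pow_mem h.x_mem 2
    have hzF : x ^ 2 ∈ Fx E := fun e he =>
      hu _ (hQ e he _ hzQ) _ hzQ (by rw [MulEquiv.orderOf_eq, hz]) hz
    refine Or.inr ⟨by rw [hc, hx], ?_, fun s hs hs' => ?_, y, h.y_mem, x, h.x_mem, fun e => ?_⟩
    · have h1 : ¬ Nat.card Q ≤ 2 * Nat.card (Q ⊓ Fx E : Subgroup W) := fun h' =>
        hF (le_Fx_of_index hW hp hE hQ le_rfl h')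
      have h2 : 2 ∣ Nat.card (Q ⊓ Fx E : Subgroup W) := by
        rw [← hz]; exact orderOf_dvd_natCard _ ⟨hzQ, hzF⟩
      have h3 : 0 < Nat.card (Q ⊓ Fx E : Subgroup W) := Nat.card_pos
      rw [hc, hx] at h1
      omega
    · obtain ⟨k, hk⟩ := IsPGroup.iff_orderOf.1 hW s
      rcases k with _ | _ | k
      · exact absurd (orderOf_eq_one_iff.1 (by simpa using hk) ▸ one_mem _) hs'
      · exact absurd (hu s hs _ hzQ (by simpa using hk) hz ▸ hzF) hs'
      · rw [hk, pow_succ, pow_succ]; have := Nat.two_pow_pos k; omega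
    · have h1 := h.inv y h.y_mem h.y_not
      rw [e, mul_inv_cancel_right] at h1
      have h2 : x ^ 2 = 1 := by rw [pow_two]; nth_rewrite 1 [h1]; exact inv_mul_cancel x
      rw [h2, orderOf_one] at hz
      omega
  · left
    have hxF : x ∈ Fx E := by
      refine fixed_of_zpowers hW hp hE _ x le_rfl fun e he => ?_
      by_contra h1
      have h2 := h.sq _ (hQ e he x h.x_mem) h1
      have h3 := congrArg orderOf h2
      rw [← map_pow, MulEquiv.orderOf_eq, h.orderOf_sq hm,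
        orderOf_pow_of_dvd hm (by rw [h.ox]; exact Dvd.intro_left 2 rfl), h.ox,
        Nat.mul_div_cancel _ (Nat.pos_of_ne_zero hm)] at h3
      obtain ⟨n, rfl⟩ := Nat.exists_eq_succ_of_ne_zero hn
      rw [pow_succ, pow_succ] at h3
      have := Nat.two_pow_pos n
      omega
    refine le_Fx_of_index hW hp hE hQ (U := zpowers x) (zpowers_le.2 ⟨h.x_mem, hxF⟩) ?_
    rw [hc, Nat.card_zpowers]

structure Hyp (p : ℕ) (E : Subgroup (MulAut W)) : Prop where
  hW : IsPGroup 2 W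
  hp : p ≠ 2
  hE : IsPGroup p E
  hab : IsMulCommutative E
  hnc : ¬ IsCyclic E
  hfix : ∀ e ∈ E, e ≠ 1 → ∀ x y : W, orderOf x = 2 → orderOf y = 2 → e x = x → e y = y → x = y

omit [Finite W] [Fact p.Prime] in
theorem Fx_le_F1 {e : MulAut W} (he : e ∈ E) : Fx E ≤ F1 e := fun _ hx => hx e he

namespace Hyp
variable (h : Hyp p E)
include h

theorem dichU {e : MulAut W} (he : e ∈ E) (h1 : e ≠ 1) {U : Subgroup W} (hU : Inv E U)
    (hle : U ≤ F1 e) :
    U ≤ Fx E ∨ (Nat.card U = 8 ∧ Nat.card (U ⊓ Fx E : Subgroup W) = 2 ∧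
      (∀ s ∈ U, s ∉ Fx E → 4 ≤ orderOf s) ∧ ∃ a ∈ U, ∃ b ∈ U, a * b ≠ b * a) :=
  dich h.hW h.hp h.hE hU fun a ha b hb ha2 hb2 => h.hfix e he h1 a b ha2 hb2 (hle ha) (hle hb)

theorem dichF {e : MulAut W} (he : e ∈ E) (h1 : e ≠ 1) :
    F1 e ≤ Fx E ∨ (Nat.card (F1 e) = 8 ∧ Nat.card (Fx E) = 2 ∧
      (∀ s ∈ F1 e, s ∉ Fx E → 4 ≤ orderOf s) ∧ ∃ a ∈ F1 e, ∃ b ∈ F1 e, a * b ≠ b * a) := by
  have := h.dichU he h1 (inv_F1 h.hab he) le_rfl
  rwa [inf_eq_right.2 (Fx_le_F1 he)] at this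

theorem gen {D V : Subgroup W} (hD : Inv E D) (hV : ∀ e ∈ E, e ≠ 1 → D ⊓ F1 e ≤ V) : D ≤ V :=
  le_of_F1 h.hW h.hp h.hE h.hab h.hnc hD hV

theorem exists_not_le {e₀ : MulAut W} (h1 : e₀ ≠ 1) :
    ∃ e ∈ E, e ≠ 1 ∧ ¬ F1 e ≤ F1 e₀ := by
  by_contra hc
  push Not at hc
  have h2 : (⊤ : Subgroup W) ≤ F1 e₀ :=
    h.gen (fun _ _ _ _ => mem_top _) fun e he h3 => inf_le_right.trans (hc e he h3)
  exact h1 (MulEquiv.ext fun x => h2 (mem_top x))

omit [Finite W] [Fact p.Prime] in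
theorem exists_ne_one : ∃ e ∈ E, e ≠ 1 := by
  by_contra hc
  push Not at hc
  have : Subsingleton E := ⟨fun a b => Subtype.ext (by rw [hc a a.2, hc b b.2])⟩
  exact h.hnc isCyclic_of_subsingleton

theorem exists_big' {e₀ : MulAut W} (h0 : e₀ ∈ E) (h1 : e₀ ≠ 1) :
    ∃ e ∈ E, e ≠ 1 ∧ ¬ F1 e ≤ F1 e₀ ∧ Nat.card (F1 e) = 8 ∧ Nat.card (Fx E) = 2 ∧
      (∀ s ∈ F1 e, s ∉ Fx E → 4 ≤ orderOf s) ∧ ∃ a ∈ F1 e, ∃ b ∈ F1 e, a * b ≠ b * a := by
  obtain ⟨e, he, h2, h3⟩ := h.exists_not_le h1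
  rcases h.dichF he h2 with h4 | h4
  · exact absurd (h4.trans (Fx_le_F1 h0)) h3
  · exact ⟨e, he, h2, h3, h4⟩

theorem card_Fx : Nat.card (Fx E) = 2 := by
  obtain ⟨e₀, h0, h1⟩ := h.exists_ne_one
  obtain ⟨e, -, -, -, -, h2, -⟩ := h.exists_big' h0 h1
  exact h2

theorem p_eq : p = 3 := by
  obtain ⟨e₀, h0, h1⟩ := h.exists_ne_one
  obtain ⟨e, he, -, -, h2, h3, -⟩ := h.exists_big' h0 h1
  have h4 := card_modEq h.hE (inv_F1 h.hab he)
  rw [inf_eq_right.2 (Fx_le_F1 he), h2, h3] at h4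
  have h5 : p ∣ 2 * 3 := (Nat.modEq_iff_dvd' (by norm_num)).1 h4.symm
  have hp : p.Prime := Fact.out
  rcases hp.dvd_mul.1 h5 with h6 | h6
  · exact absurd ((Nat.prime_dvd_prime_iff_eq hp Nat.prime_two).1 h6) h.hp
  · exact (Nat.prime_dvd_prime_iff_eq hp Nat.prime_three).1 h6

theorem abel_le {A : Subgroup W} (hA : Inv E A) (hc : ∀ a ∈ A, ∀ b ∈ A, a * b = b * a) :
    A ≤ Fx E := by
  refine h.gen hA fun e he h1 => ?_
  rcases h.dichU he h1 (hA.inf (inv_F1 h.hab he)) inf_le_right with h2 | ⟨-, -, -, a, ha, b, hb, h2⟩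
  · exact h2
  · exact absurd (hc a ha.1 b hb.1) h2

theorem center_eq : center W = Fx E := by
  have h1 : center W ≤ Fx E := h.abel_le
    (fun e _ x hx => mem_center_iff.2 fun g => by
      obtain ⟨g, rfl⟩ := e.surjective g
      rw [← map_mul, ← map_mul, mem_center_iff.1 hx g])
    fun a ha b _ => (mem_center_iff.1 ha b).symm
  have h2 : Nontrivial W := by
    have h3 : Nontrivial (Fx E) := Finite.one_lt_card_iff_nontrivial.1 (by rw [h.card_Fx]; norm_num)
    exact (Fx E).subtype_injective.nontrivial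
  have h3 : Nontrivial (center W) := h.hW.center_nontrivial
  have h4 := Finite.one_lt_card_iff_nontrivial.2 h3
  exact eq_of_le_of_card_ge h1 (by rw [h.card_Fx]; omega)

theorem card_center : Nat.card (center W) = 2 := by rw [h.center_eq, h.card_Fx]

theorem frattini_le : frattini W ≤ center W := by
  -- the elements of the Frattini subgroup central modulo the centre
  let D : Subgroup W := frattini W ⊓ (center (W ⧸ center W)).comap (QuotientGroup.mk' (center W))
  have hD : ∀ x, x ∈ D ↔ x ∈ frattini W ∧ ∀ g, ⁅x, g⁆ ∈ center W := by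
    intro x
    refine and_congr_right fun _ => ?_
    change _ ∈ comap _ _ ↔ _
    rw [mem_comap, mem_center_iff]
    constructor
    · intro h1 g
      rw [← QuotientGroup.eq_one_iff, ← QuotientGroup.mk'_apply, map_commutatorElement,
        commutatorElement_eq_one_iff_mul_comm]
      exact (h1 _).symm
    · intro h1 g
      obtain ⟨g, rfl⟩ := QuotientGroup.mk'_surjective _ g
      have := h1 g
      rw [← QuotientGroup.eq_one_iff, ← QuotientGroup.mk'_apply, map_commutatorElement,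
        commutatorElement_eq_one_iff_mul_comm] at this
      exact this.symm
  have hc : ∀ x ∈ D, frattini W ≤ Cx(x) := by
    intro x hx
    have h1 := ((hD x).1 hx).2
    let f : W →* center W := MonoidHom.mk' (fun g => ⟨⁅x, g⁆, h1 g⟩) fun a b => Subtype.ext (by
      change ⁅x, a * b⁆ = ⁅x, a⁆ * ⁅x, b⁆
      have h2 := mem_center_iff.1 (h1 b) a
      calc ⁅x, a * b⁆ = ⁅x, a⁆ * (a * ⁅x, b⁆) * a⁻¹ := by
            simp only [commutatorElement_def]; group
        _ = ⁅x, a⁆ * ⁅x, b⁆ := by rw [h2]; group)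
    have h2 : f.ker.index ∣ 2 := by
      rw [index_ker, ← h.card_center]
      exact card_subgroup_dvd_card _
    have h3 : f.ker ≤ Cx(x) := fun g hg => by
      have h4 : ⁅x, g⁆ = 1 := congrArg Subtype.val (MonoidHom.mem_ker.1 hg)
      exact mem_Cx.2 (commutatorElement_eq_one_iff_mul_comm.1 h4).symm
    refine le_trans ?_ h3
    rcases (Nat.dvd_prime Nat.prime_two).1 h2 with h4 | h4
    · rw [index_eq_one.1 h4]; exact le_top
    · exact frattini_le_coatom (CfH1.isCoatom_of_index_prime (h4 ▸ Nat.prime_two))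
  have h1 : D ≤ center W := by
    rw [h.center_eq]
    refine h.abel_le (fun e _ x hx => ?_) fun a ha b hb => mem_Cx.1 (hc b hb ((hD a).1 ha).1)
    rw [hD] at hx ⊢
    refine ⟨CfH1.map_frattini_le (f := e.toMonoidHom) e.surjective ⟨x, hx.1, rfl⟩, fun g => ?_⟩
    obtain ⟨g, rfl⟩ := e.surjective g
    rw [← map_commutatorElement, mem_center_iff]
    intro k
    obtain ⟨k, rfl⟩ := e.surjective k
    rw [← map_mul, ← map_mul, mem_center_iff.1 (hx.2 g) k]
  by_contra h2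
  have hq : IsPGroup 2 (W ⧸ center W) := h.hW.to_quotient _
  have hn : ((frattini W).map (QuotientGroup.mk' (center W))).Normal :=
    Normal.map inferInstance _ (QuotientGroup.mk'_surjective _)
  obtain ⟨_, ⟨x, hx, rfl⟩, h3, h4⟩ := exists_mem_center_of_normal (p := 2)
    (Q := (frattini W).map (QuotientGroup.mk' (center W))) (T := ⊤) (hq.to_subgroup _)
    (hq.to_subgroup _) le_normalizer_of_normal (fun h3 => h2 (by
      rw [Subgroup.map_eq_bot_iff, QuotientGroup.ker_mk'] at h3; exact h3))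
  refine h3 ?_
  rw [QuotientGroup.mk'_apply, QuotientGroup.eq_one_iff]
  refine h1 ⟨hx, ?_⟩
  change _ ∈ comap _ _
  rw [mem_comap, mem_center_iff]
  exact fun g => h4 g (mem_top g)

theorem commutator_eq : commutator W = center W := by
  have := h.hW.isNilpotent
  have h1 : commutator W ≤ center W := CfH1.commutator_le_frattini.trans h.frattini_le
  obtain ⟨e₀, h0, h2⟩ := h.exists_ne_one
  obtain ⟨e, -, -, -, -, -, -, a, -, b, -, h3⟩ := h.exists_big' h0 h2
  have h4 : commutator W ≠ ⊥ := fun h4 => h3 (commutatorElement_eq_one_iff_mul_comm.1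
    (mem_bot.1 (h4 ▸ commutator_mem_commutator (mem_top a) (mem_top b))))
  have h5 := (one_lt_card_iff_ne_bot _).2 h4
  exact eq_of_le_of_card_ge h1 (by rw [h.card_center]; omega)

theorem extraspecial : IsExtraspecial 2 W := by
  have := h.hW.isNilpotent
  exact ⟨⟨h.hW, le_antisymm h.frattini_le (h.commutator_eq ▸ CfH1.commutator_le_frattini),
    h.commutator_eq⟩, h.card_center⟩

end Hyp
end Q8E
end CfH2
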