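import Cfsg.Agent.H2.Q8Eb

set_option autoImplicit false
open Cfsg CfH9 Subgroup CfH5
open scoped commutatorElement

namespace CfH2
namespace Q8E

variable {W : Type*} [Group W] [Finite W] {p : ℕ} [Fact p.Prime] {E : Subgroup (MulAut W)}

theorem card_sup_le {Z : Subgroup W} (hZ : commutator W ≤ Z) (S : Finset (Subgroup W))
    (hS : ∀ Q ∈ S, Z ≤ Q ∧ Nat.card Q ≤ 4 * Nat.card Z) :
    Nat.card (Z ⊔ S.sup id : Subgroup W) ≤ 4 ^ S.card * Nat.card Z := by
  classical
  induction S using Finset.induction_on with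
  | empty => simp
  | insert Q S hQ ih =>
    have h1 := ih fun R hR => hS R (Finset.mem_insert_of_mem hR)
    obtain ⟨h2, h3⟩ := hS Q (Finset.mem_insert_self _ _)
    have hn : Q.Normal := ⟨fun a ha g => by
      have h0 : ⁅g, a⁆ ∈ Q := hZ.trans h2 (commutator_mem_commutator (mem_top g) (mem_top a))
      have := mul_mem h0 ha
      rwa [commutatorElement_def, inv_mul_cancel_right] at this⟩
    have h4 := card_sup_mul_card_inf (A := Z ⊔ S.sup id) (B := Q) le_normalizer_of_normal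
    have h5 : Nat.card Z ≤ Nat.card ((Z ⊔ S.sup id) ⊓ Q : Subgroup W) :=
      card_le_of_le (le_inf le_sup_left h2)
    have h6 : Z ⊔ (insert Q S).sup id = (Z ⊔ S.sup id) ⊔ Q := by
      rw [Finset.sup_insert, id, sup_comm Q, sup_assoc]
    rw [h6, Finset.card_insert_of_notMem hQ, pow_succ]
    have h7 : 0 < Nat.card Z := Nat.card_pos
    refine Nat.le_of_mul_le_mul_right ?_ h7
    calc Nat.card ((Z ⊔ S.sup id) ⊔ Q : Subgroup W) * Nat.card Z
        ≤ Nat.card ((Z ⊔ S.sup id) ⊔ Q : Subgroup W) *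
          Nat.card ((Z ⊔ S.sup id) ⊓ Q : Subgroup W) := Nat.mul_le_mul_left _ h5
      _ = Nat.card (Z ⊔ S.sup id : Subgroup W) * Nat.card Q := h4
      _ ≤ (4 ^ S.card * Nat.card Z) * (4 * Nat.card Z) := Nat.mul_le_mul h1 h3
      _ = 4 ^ S.card * 4 * Nat.card Z * Nat.card Z := by ring

namespace Hyp
variable (h : Hyp p E)
include h

/-- the kernel on one of the quaternion groups has index at most three -/
theorem exists_ker {e : MulAut W} (he : e ∈ E) (h8 : Nat.card (F1 e) = 8)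
    (h4 : ∀ s ∈ F1 e, s ∉ Fx E → 4 ≤ orderOf s) :
    ∃ K : Subgroup E, K.index ≤ 3 ∧ ∀ k ∈ K, F1 e ≤ F1 (k : MulAut W) := by
  have h1 : ¬ F1 e ≤ Fx E := fun h1 => by
    have := card_le_of_le h1
    rw [h8, h.card_Fx] at this
    omega
  obtain ⟨x, hx, hx'⟩ := SetLike.not_le_iff_exists.1 h1
  refine ⟨MulAction.stabilizer E x, ?_, fun k hk => ?_⟩
  · obtain ⟨n, hn⟩ := h.hE.index (MulAction.stabilizer E x)
    have h2 : (MulAction.stabilizer E x).index ≤ 8 := by
      rw [MulAction.index_stabilizer, ← h8, ← Nat.card_coe_set_eq]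
      refine Nat.card_mono (Set.toFinite _) ?_
      rintro _ ⟨k, rfl⟩
      exact inv_F1 h.hab he k k.2 x hx
    rw [hn, h.p_eq] at h2 ⊢
    rcases n with _ | _ | n
    · norm_num
    · norm_num
    · rw [pow_succ, pow_succ] at h2
      have : 0 < 3 ^ n := by positivity
      omega
  · have h2 : zpowers (k : MulAut W) ≤ E := zpowers_le.2 k.2
    have h3 : F1 e ≤ Fx (zpowers (k : MulAut W)) := by
      refine le_Fx_of_index h.hW h.hp (h.hE.to_le h2) ((inv_F1 h.hab he).mono h2)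
        (U := zpowers x) (zpowers_le.2 ⟨hx, fun f hf => ?_⟩) ?_
      · have h5 : zpowers (k : MulAut W) ≤ MulAction.stabilizer (MulAut W) x := zpowers_le.2 hk
        exact h5 hf
      · rw [h8, Nat.card_zpowers]; have := h4 x hx hx'; omega
    exact h3.trans (Fx_le_F1 (mem_zpowers _))

theorem card_F1_le {e : MulAut W} (he : e ∈ E) (h1 : e ≠ 1) : Nat.card (F1 e) ≤ 8 := by
  rcases h.dichF he h1 with h2 | h2
  · have := card_le_of_le h2
    rw [h.card_Fx] at this
    omega
  · exact h2.1.le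

theorem card_E : Nat.card E = 9 := by
  have : Finite (MulAut W) := Finite.of_injective _ (DFunLike.coe_injective (F := MulAut W))
  obtain ⟨e₀, h0, h1⟩ := h.exists_ne_one
  obtain ⟨e₁, he₁, h2, -, h3, -, h4, -⟩ := h.exists_big' h0 h1
  obtain ⟨e₂, he₂, -, h5, h6, -, h7, -⟩ := h.exists_big' he₁ h2
  obtain ⟨K₁, hK₁, hK₁'⟩ := h.exists_ker he₁ h3 h4
  obtain ⟨K₂, hK₂, hK₂'⟩ := h.exists_ker he₂ h6 h7
  have h8 : K₁ ⊓ K₂ = ⊥ := by
    rw [eq_bot_iff]
    intro k hk
    by_contra h9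
    have h10 : (k : MulAut W) ≠ 1 := fun h' => h9 (mem_bot.2 (Subtype.ext h'))
    have h11 := h.card_F1_le k.2 h10
    have h12 := eq_of_le_of_card_ge (hK₁' k hk.1) (by omega)
    exact h5 ((hK₂' k hk.2).trans h12.ge)
  have h9 : Nat.card E ≤ 9 := by
    have := index_inf_le (H := K₁) (K := K₂)
    rw [h8, index_bot] at this
    exact this.trans (Nat.mul_le_mul hK₁ hK₂)
  obtain ⟨n, hn⟩ := h.hE.exists_card_eq
  have hp := h.p_eq
  subst hp
  rcases n with _ | _ | _ | n
  · exact absurd (isCyclic_of_card_dvd_prime (p := 3) (by rw [hn]; norm_num)) h.hnc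
  · exact absurd (isCyclic_of_card_dvd_prime (p := 3) (by rw [hn]; norm_num)) h.hnc
  · rw [hn]; norm_num
  · rw [hn, pow_succ, pow_succ, pow_succ] at h9
    have : 0 < 3 ^ n := by positivity
    omega

theorem card_W_le : Nat.card W ≤ 2 ^ 9 := by
  classical
  have : Finite (MulAut W) := Finite.of_injective _ (DFunLike.coe_injective (F := MulAut W))
  have := Fintype.ofFinite E
  let T : Finset E := Finset.univ.erase 1
  let f : E → Subgroup W := fun e => F1 (e : MulAut W)
  have hT : T.card = 8 := by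
    rw [Finset.card_erase_of_mem (Finset.mem_univ _), Finset.card_univ, ← Nat.card_eq_fintype_card,
      h.card_E]
  have h1 : 2 * (T.image f).card ≤ T.card := by
    refine Finset.mul_card_image_le_card _ _ fun Q hQ => ?_
    obtain ⟨e, he, rfl⟩ := Finset.mem_image.1 hQ
    have he1 : e ≠ 1 := (Finset.mem_erase.1 he).1
    have h2 : e ≠ e⁻¹ := fun h2 => by
      have h3 : e ^ 2 = 1 := by rw [pow_two]; nth_rewrite 1 [h2]; exact inv_mul_cancel e
      have h4 : orderOf e = 2 := orderOf_eq_prime h3 he1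
      have h5 := orderOf_dvd_natCard e
      rw [h4, h.card_E] at h5
      omega
    rw [← Finset.card_pair h2]
    refine Finset.card_le_card fun a ha => ?_
    rw [Finset.mem_insert, Finset.mem_singleton] at ha
    rcases ha with rfl | rfl
    · exact Finset.mem_filter.2 ⟨he, rfl⟩
    · exact Finset.mem_filter.2 ⟨Finset.mem_erase.2 ⟨inv_ne_one.2 he1, Finset.mem_univ _⟩,
        F1_inv _⟩
  have h2 : (T.image f).card ≤ 4 := by omega
  have h3 := card_sup_le (Z := Fx E) (h.commutator_eq.trans h.center_eq).le (T.image f)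
    fun Q hQ => by
      obtain ⟨e, he, rfl⟩ := Finset.mem_image.1 hQ
      have he1 : (e : MulAut W) ≠ 1 := fun h' => (Finset.mem_erase.1 he).1 (Subtype.ext h')
      exact ⟨Fx_le_F1 e.2, by rw [h.card_Fx]; exact h.card_F1_le e.2 he1⟩
  have h4 : (⊤ : Subgroup W) ≤ Fx E ⊔ (T.image f).sup id := by
    refine h.gen (fun _ _ _ _ => mem_top _) fun e he h5 => inf_le_right.trans ?_
    refine le_trans ?_ le_sup_right
    exact Finset.le_sup (f := id) (Finset.mem_image.2 ⟨⟨e, he⟩, Finset.mem_erase.2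
      ⟨fun h' => h5 (congrArg Subtype.val h'), Finset.mem_univ _⟩, rfl⟩)
  have h5 := card_le_of_le h4
  rw [card_top] at h5
  rw [h.card_Fx] at h3
  calc Nat.card W ≤ 4 ^ (T.image f).card * 2 := h5.trans h3
    _ ≤ 4 ^ 4 * 2 := Nat.mul_le_mul_right _ (Nat.pow_le_pow_right (by norm_num) h2)
    _ = 2 ^ 9 := by norm_num

theorem card_W : Nat.card W = 2 ^ 5 ∨ Nat.card W = 2 ^ 7 ∨ Nat.card W = 2 ^ 9 := by
  obtain ⟨n, hn⟩ := h.hW.exists_card_eq
  have h1 := h.card_W_le
  obtain ⟨e₀, h0, h2⟩ := h.exists_ne_one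
  obtain ⟨e₁, he₁, h3, -, h4, -⟩ := h.exists_big' h0 h2
  have h5 : F1 e₁ < ⊤ := lt_top_iff_ne_top.2 fun h5 => by
    obtain ⟨e, -, -, h6⟩ := h.exists_not_le h3
    exact h6 (h5 ▸ le_top)
  have h6 := card_lt_of_lt h5
  rw [h4, card_top] at h6
  have h7 := card_modEq h.hE (U := ⊤) fun _ _ _ _ => mem_top _
  rw [top_inf_eq, card_top, h.card_Fx, h.p_eq] at h7
  rw [hn] at h1 h6 h7 ⊢
  have h8 : n ≤ 9 := (Nat.pow_le_pow_iff_right (by norm_num)).1 h1
  interval_cases n <;> simp_all [Nat.ModEq]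

end Hyp
end Q8E
end CfH2
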