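import Cfsg.Agent.OD.Pre
import Cfsg.Agent.H2.Orders
import Cfsg.Agent.H3.Match2
import Cfsg.Agent.H3.F4

/-! Special groups of order 64 given by relations; Sylow 2-subgroups of `L₃(4)` and `U₃(4)`. -/

set_option autoImplicit false

namespace CfH2.Sp64

open Subgroup

/-- The defining relations. -/
def Data {G : Type*} [Monoid G] (k0 k1 : ℕ) (x0 x1 y0 y1 c0 c1 : G) : Prop :=
  x0 * x1 = x1 * x0 ∧ y0 * y1 = y1 * y0 ∧ x0 * y0 = c0 * y0 * x0 ∧ x1 * y0 = c0 * c1 * y0 * x1 ∧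
  x0 * y1 = c0 * c1 * y1 * x0 ∧ x1 * y1 = c1 * y1 * x1 ∧
  (x0 * c0 = c0 * x0 ∧ x1 * c0 = c0 * x1 ∧ y0 * c0 = c0 * y0 ∧ y1 * c0 = c0 * y1) ∧
  (x0 * c1 = c1 * x0 ∧ x1 * c1 = c1 * x1 ∧ y0 * c1 = c1 * y0 ∧ y1 * c1 = c1 * y1) ∧
  c0 * c1 = c1 * c0 ∧ c0 * c0 = 1 ∧ c1 * c1 = 1 ∧
  x0 * x0 = c0 ^ k0 * c1 ^ k1 ∧ y0 * y0 = c0 ^ k0 * c1 ^ k1 ∧
  x1 * x1 = c0 ^ k1 * c1 ^ (k0 + k1) ∧ y1 * y1 = c0 ^ k1 * c1 ^ (k0 + k1)

theorem Data.map {G H : Type*} [Monoid G] [Monoid H] (f : G →* H) {k0 k1 : ℕ}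
    {x0 x1 y0 y1 c0 c1 : G} (h : Data k0 k1 x0 x1 y0 y1 c0 c1) :
    Data k0 k1 (f x0) (f x1) (f y0) (f y1) (f c0) (f c1) := by
  unfold Data at h ⊢
  simp only [← map_mul, ← map_pow]
  rw [← map_one f]
  obtain ⟨h1, h2, h3, h4, h5, h6, ⟨h7, h8, h9, h10⟩, ⟨h11, h12, h13, h14⟩, h15, h16, h17, h18,
    h19, h20, h21⟩ := h
  refine ⟨?_, ?_, ?_, ?_, ?_, ?_, ⟨?_, ?_, ?_, ?_⟩, ⟨?_, ?_, ?_, ?_⟩, ?_, ?_, ?_, ?_, ?_, ?_, ?_⟩ <;>
    (apply congrArg f; assumption)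

theorem Data.of_inj {G H : Type*} [Monoid G] [Monoid H] (f : G →* H) (hf : Function.Injective f)
    {k0 k1 : ℕ} {x0 x1 y0 y1 c0 c1 : G}
    (h : Data k0 k1 (f x0) (f x1) (f y0) (f y1) (f c0) (f c1)) :
    Data k0 k1 x0 x1 y0 y1 c0 c1 := by
  unfold Data at h ⊢
  simp only [← map_mul, ← map_pow] at h
  rw [← map_one f] at h
  simpa only [hf.eq_iff] using h

theorem Data.prod {G H : Type*} [Monoid G] [Monoid H] {k0 k1 : ℕ} {x0 x1 y0 y1 c0 c1 : G}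
    {x0' x1' y0' y1' c0' c1' : H} (h : Data k0 k1 x0 x1 y0 y1 c0 c1)
    (h' : Data k0 k1 x0' x1' y0' y1' c0' c1') :
    Data k0 k1 (x0, x0') (x1, x1') (y0, y0') (y1, y1') (c0, c0') (c1, c1') := by
  unfold Data at h h' ⊢
  simp only [Prod.mk_mul_mk, Prod.pow_mk, Prod.mk.injEq, Prod.mk_eq_one]
  tauto

variable {G : Type*} [Group G]

theorem ext2 {H : Subgroup G} {g : G} (hn : ∀ h ∈ H, g * h * g⁻¹ ∈ H) (h2 : g * g ∈ H) {x : G}
    (hx : x ∈ H ⊔ zpowers g) : ∃ i : Fin 2, ∃ h ∈ H, x = g ^ (i : ℕ) * h := by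
  have hn' : ∀ h ∈ H, g⁻¹ * h * g ∈ H := fun h hh => by
    have : g⁻¹ * h * g = (g * g)⁻¹ * (g * h * g⁻¹) * (g * g) := by group
    rw [this]; exact H.mul_mem (H.mul_mem (H.inv_mem h2) (hn h hh)) h2
  let W : Subgroup G :=
    { carrier := {x | x ∈ H ∨ g⁻¹ * x ∈ H}
      one_mem' := Or.inl H.one_mem
      mul_mem' := by
        rintro a b (ha | ha) (hb | hb)
        · exact Or.inl (H.mul_mem ha hb)
        · refine Or.inr ?_
          have : g⁻¹ * (a * b) = (g⁻¹ * a * g) * (g⁻¹ * b) := by group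
          rw [this]; exact H.mul_mem (hn' a ha) hb
        · exact Or.inr (by rw [← mul_assoc]; exact H.mul_mem ha hb)
        · refine Or.inl ?_
          have : a * b = (g * (g⁻¹ * a) * g⁻¹) * (g * g) * (g⁻¹ * b) := by group
          rw [this]; exact H.mul_mem (H.mul_mem (hn _ ha) h2) hb
      inv_mem' := by
        rintro a (ha | ha)
        · exact Or.inl (H.inv_mem ha)
        · refine Or.inr ?_
          have : g⁻¹ * a⁻¹ = (g⁻¹ * (g⁻¹ * a)⁻¹ * g) * (g * g)⁻¹ := by group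
          rw [this]; exact H.mul_mem (hn' _ (H.inv_mem ha)) (H.inv_mem h2) }
  have hW : H ⊔ zpowers g ≤ W := sup_le (fun x hx => Or.inl hx)
    ((zpowers_le).2 (Or.inr (by simp)))
  rcases hW hx with h | h
  · exact ⟨0, x, h, by simp⟩
  · exact ⟨1, g⁻¹ * x, h, by simp⟩

theorem norm_sup {H : Subgroup G} {g a : G} (hn : ∀ h ∈ H, g * h * g⁻¹ ∈ H)
    (ha : g * a * g⁻¹ ∈ H ⊔ zpowers a) : ∀ h ∈ H ⊔ zpowers a, g * h * g⁻¹ ∈ H ⊔ zpowers a := by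
  have : H ⊔ zpowers a ≤ (H ⊔ zpowers a).comap (MulAut.conj g).toMonoidHom :=
    sup_le (fun h hh => mem_sup_left (hn h hh)) ((zpowers_le).2 ha)
  exact fun h hh => this hh

theorem conj_of_comm {g a : G} (h : g * a = a * g) : g * a * g⁻¹ = a := by rw [h]; group

theorem Data.nf {k0 k1 : ℕ} {x0 x1 y0 y1 c0 c1 : G} (h : Data k0 k1 x0 x1 y0 y1 c0 c1) {x : G}
    (hx : x ∈ closure ({x0, x1, y0, y1} : Set G)) :
    ∃ a b c d e f : Fin 2, x = x0 ^ (a : ℕ) * (x1 ^ (b : ℕ) * (y0 ^ (c : ℕ) * (y1 ^ (d : ℕ) *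
      (c0 ^ (e : ℕ) * c1 ^ (f : ℕ))))) := by
  obtain ⟨h1, h2, h3, h4, h5, h6, ⟨h7, h8, h9, h10⟩, ⟨h11, h12, h13, h14⟩, h15, h16, h17, h18,
    h19, h20, h21⟩ := h
  set H1 : Subgroup G := ⊥ ⊔ zpowers c1
  set H2 := H1 ⊔ zpowers c0
  set H3 := H2 ⊔ zpowers y1
  set H4 := H3 ⊔ zpowers y0
  set H5 := H4 ⊔ zpowers x1
  have b0 : ∀ g : G, ∀ h ∈ (⊥ : Subgroup G), g * h * g⁻¹ ∈ (⊥ : Subgroup G) := by simp
  have n1 : ∀ g : G, g * c1 = c1 * g → ∀ h ∈ H1, g * h * g⁻¹ ∈ H1 := fun g hg =>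
    norm_sup (b0 g) (by rw [conj_of_comm hg]; exact mem_sup_right (mem_zpowers _))
  have n2 : ∀ g : G, g * c1 = c1 * g → g * c0 = c0 * g → ∀ h ∈ H2, g * h * g⁻¹ ∈ H2 :=
    fun g hg hg' => norm_sup (n1 g hg) (by rw [conj_of_comm hg']; exact mem_sup_right (mem_zpowers _))
  have m1 : c1 ∈ H2 := mem_sup_left (mem_sup_right (mem_zpowers _))
  have m0 : c0 ∈ H2 := mem_sup_right (mem_zpowers _)
  have mp : ∀ i j : ℕ, c0 ^ i * c1 ^ j ∈ H2 := fun i j => H2.mul_mem (H2.pow_mem m0 i) (H2.pow_mem m1 j)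
  have n3 : ∀ g c : G, g * c1 = c1 * g → g * c0 = c0 * g → c ∈ H2 → g * y1 = c * y1 * g →
      ∀ h ∈ H3, g * h * g⁻¹ ∈ H3 := fun g c hg hg' hc hy => norm_sup (n2 g hg hg') (by
    rw [hy, mul_inv_cancel_right]
    exact mul_mem (mem_sup_left hc) (mem_sup_right (mem_zpowers _)))
  have n4 : ∀ g c c' : G, g * c1 = c1 * g → g * c0 = c0 * g → c ∈ H2 → g * y1 = c * y1 * g →
      c' ∈ H2 → g * y0 = c' * y0 * g → ∀ h ∈ H4, g * h * g⁻¹ ∈ H4 :=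
    fun g c c' hg hg' hc hy hc' hy' => norm_sup (n3 g c hg hg' hc hy) (by
    rw [hy', mul_inv_cancel_right]
    exact mul_mem (mem_sup_left (mem_sup_left hc')) (mem_sup_right (mem_zpowers _)))
  have n5 : ∀ h ∈ H5, x0 * h * x0⁻¹ ∈ H5 := norm_sup (n4 x0 _ _ h11 h7 (mul_mem m0 m1) h5 m0 h3)
    (by rw [conj_of_comm h1]; exact mem_sup_right (mem_zpowers _))
  have hx' : x ∈ H5 ⊔ zpowers x0 := by
    refine (closure_le _).2 ?_ hx
    rintro z (rfl | rfl | rfl | rfl)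
    · exact mem_sup_right (mem_zpowers _)
    · exact mem_sup_left (mem_sup_right (mem_zpowers _))
    · exact mem_sup_left (mem_sup_left (mem_sup_right (mem_zpowers _)))
    · exact mem_sup_left (mem_sup_left (mem_sup_left (mem_sup_right (mem_zpowers _))))
  obtain ⟨a, z5, hz5, rfl⟩ := ext2 n5
    (by rw [h18]; exact mem_sup_left (mem_sup_left (mem_sup_left (mp _ _)))) hx'
  obtain ⟨b, z4, hz4, rfl⟩ := ext2 (n4 x1 _ _ h12 h8 m1 h6 (mul_mem m0 m1) h4)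
    (by rw [h20]; exact mem_sup_left (mem_sup_left (mp _ _))) hz5
  obtain ⟨c, z3, hz3, rfl⟩ := ext2 (n3 y0 1 h13 h9 (one_mem _) (by rw [one_mul, h2]))
    (by rw [h19]; exact mem_sup_left (mp _ _)) hz4
  obtain ⟨d, z2, hz2, rfl⟩ := ext2 (n2 y1 h14 h10) (by rw [h21]; exact mp _ _) hz3
  obtain ⟨e, z1, hz1, rfl⟩ := ext2 (n1 c0 h15) (by rw [h16]; exact one_mem _) hz2
  obtain ⟨f, z0, hz0, rfl⟩ := ext2 (b0 c1) (by rw [h17]; exact one_mem _) hz1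
  rw [mem_bot] at hz0
  exact ⟨a, b, c, d, e, f, by rw [hz0, mul_one]⟩

theorem Data.card_le {k0 k1 : ℕ} {x0 x1 y0 y1 c0 c1 : G} (h : Data k0 k1 x0 x1 y0 y1 c0 c1) :
    Nat.card (closure ({x0, x1, y0, y1} : Set G)) ≤ 64 := by
  let Φ : Fin 2 × Fin 2 × Fin 2 × Fin 2 × Fin 2 × Fin 2 → G := fun p =>
    x0 ^ (p.1 : ℕ) * (x1 ^ (p.2.1 : ℕ) * (y0 ^ (p.2.2.1 : ℕ) * (y1 ^ (p.2.2.2.1 : ℕ) *
      (c0 ^ (p.2.2.2.2.1 : ℕ) * c1 ^ (p.2.2.2.2.2 : ℕ)))))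
  have h1 : ((closure ({x0, x1, y0, y1} : Set G) : Subgroup G) : Set G) ⊆ Set.range Φ := by
    intro x hx
    obtain ⟨a, b, c, d, e, f, rfl⟩ := h.nf hx
    exact ⟨(a, b, c, d, e, f), rfl⟩
  calc _ ≤ Nat.card (Set.range Φ) := Nat.card_mono (Set.finite_range Φ) h1
    _ ≤ Nat.card (Fin 2 × Fin 2 × Fin 2 × Fin 2 × Fin 2 × Fin 2) := Finite.card_range_le Φ
    _ = 64 := by simp

theorem Data.eq_zero {k0 k1 : ℕ} {x0 x1 y0 y1 c0 c1 : G} (h : Data k0 k1 x0 x1 y0 y1 c0 c1)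
    (n0 : c0 ≠ 1) (n1 : c1 ≠ 1) (n2 : c0 * c1 ≠ 1) {a b c d e f : Fin 2}
    (hx : x0 ^ (a : ℕ) * (x1 ^ (b : ℕ) * (y0 ^ (c : ℕ) * (y1 ^ (d : ℕ) *
      (c0 ^ (e : ℕ) * c1 ^ (f : ℕ))))) = 1) : a = 0 ∧ b = 0 ∧ c = 0 ∧ d = 0 ∧ e = 0 ∧ f = 0 := by
  obtain ⟨h1, h2, h3, h4, h5, h6, ⟨h7, h8, h9, h10⟩, ⟨h11, h12, h13, h14⟩, h15, h16, h17, h18,
    h19, h20, h21⟩ := h
  have key : ∀ u v c : G, u * v = c * v * u → Commute u v → c = 1 := fun u v c e1 e2 => by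
    rw [e2.eq, mul_assoc] at e1
    exact (mul_eq_right.mp e1.symm)
  have e1 : Commute (x0 ^ (a : ℕ) * x1 ^ (b : ℕ)) y0 := by
    rw [← mul_assoc] at hx
    rw [eq_inv_of_mul_eq_one_left hx]
    refine Commute.inv_left (Commute.symm ?_)
    exact ((Commute.refl y0).pow_right _).mul_right ((Commute.pow_right h2 _).mul_right
      ((Commute.pow_right h9 _).mul_right (Commute.pow_right h13 _)))
  have hab : a = 0 ∧ b = 0 := by
    fin_cases a <;> fin_cases b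
    · exact ⟨rfl, rfl⟩
    · exact absurd (key _ _ _ h4 (by simpa using e1)) n2
    · exact absurd (key _ _ _ h3 (by simpa using e1)) n0
    · refine absurd (key (x0 * x1) y0 c1 ?_ (by simpa using e1)) n1
      calc x0 * x1 * y0 = x0 * c0 * c1 * y0 * x1 := by rw [mul_assoc, h4]; group
        _ = c0 * c1 * (x0 * y0) * x1 := by rw [h7, mul_assoc c0, h11]; group
        _ = c1 * (c0 * c0) * y0 * x0 * x1 := by rw [h3, h15]; group
        _ = _ := by rw [h16]; group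
  obtain ⟨rfl, rfl⟩ := hab
  simp only [Fin.val_zero, pow_zero, one_mul] at hx
  have e2 : Commute x0 (y0 ^ (c : ℕ) * y1 ^ (d : ℕ)) := by
    rw [← mul_assoc] at hx
    rw [eq_inv_of_mul_eq_one_left hx]
    exact Commute.inv_right ((Commute.pow_right h7 _).mul_right (Commute.pow_right h11 _))
  have hcd : c = 0 ∧ d = 0 := by
    fin_cases c <;> fin_cases d
    · exact ⟨rfl, rfl⟩
    · exact absurd (key _ _ _ h5 (by simpa using e2)) n2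
    · exact absurd (key _ _ _ h3 (by simpa using e2)) n0
    · refine absurd (key x0 (y0 * y1) c1 ?_ (by simpa using e2)) n1
      calc x0 * (y0 * y1) = c0 * y0 * (x0 * y1) := by rw [← mul_assoc, h3]; group
        _ = c0 * (y0 * c0) * c1 * y1 * x0 := by rw [h5]; group
        _ = (c0 * c0) * (y0 * c1) * y1 * x0 := by rw [h9]; group
        _ = _ := by rw [h16, h13]; group
  obtain ⟨rfl, rfl⟩ := hcd
  simp only [Fin.val_zero, pow_zero, one_mul] at hx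
  fin_cases e <;> fin_cases f
  · simp
  · exact absurd (by simpa using hx) n1
  · exact absurd (by simpa using hx) n0
  · exact absurd (by simpa using hx) n2

theorem exists_inj {T H : Type*} [Group T] [Group H] {k0 k1 : ℕ} {x0 x1 y0 y1 c0 c1 : T}
    {x0' x1' y0' y1' c0' c1' : H} (h : Data k0 k1 x0 x1 y0 y1 c0 c1)
    (h' : Data k0 k1 x0' x1' y0' y1' c0' c1') (hT : closure ({x0, x1, y0, y1} : Set T) = ⊤)
    (hc : Nat.card T = 64) (n0 : c0' ≠ 1) (n1 : c1' ≠ 1) (n2 : c0' * c1' ≠ 1) :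
    ∃ f : T →* H, Function.Injective f := by
  have hd := h.prod h'
  set D := closure ({(x0, x0'), (x1, x1'), (y0, y0'), (y1, y1')} : Set (T × H))
  have hfin : Finite D := by
    refine Set.Finite.subset (Set.finite_range
      (fun p : Fin 2 × Fin 2 × Fin 2 × Fin 2 × Fin 2 × Fin 2 =>
      ((x0, x0') ^ (p.1 : ℕ) * ((x1, x1') ^ (p.2.1 : ℕ) * ((y0, y0') ^ (p.2.2.1 : ℕ) *
        ((y1, y1') ^ (p.2.2.2.1 : ℕ) *
      ((c0, c0') ^ (p.2.2.2.2.1 : ℕ) * (c1, c1') ^ (p.2.2.2.2.2 : ℕ))))) : T × H))) ?_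
    intro x hx
    obtain ⟨a, b, c, d, e, f, rfl⟩ := hd.nf hx
    exact ⟨(a, b, c, d, e, f), rfl⟩
  let p : D →* T := (MonoidHom.fst T H).comp D.subtype
  have hs : Function.Surjective p := by
    rw [← MonoidHom.range_eq_top, MonoidHom.range_comp, range_subtype, MonoidHom.map_closure,
      ← hT]
    simp [Set.image_insert_eq]
  have hb : Function.Bijective p := hs.bijective_of_nat_card_le (hc ▸ hd.card_le)
  let e := MulEquiv.ofBijective p hb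
  refine ⟨((MonoidHom.snd T H).comp D.subtype).comp e.symm.toMonoidHom, ?_⟩
  rw [MonoidHom.coe_comp]
  refine Function.Injective.comp ?_ e.symm.injective
  rw [injective_iff_map_eq_one]
  rintro ⟨x, hx⟩ h1
  obtain ⟨a, b, c, d, e, f, rfl⟩ := hd.nf hx
  obtain ⟨rfl, rfl, rfl, rfl, rfl, rfl⟩ := h'.eq_zero n0 n1 n2 (a := a) (b := b) (c := c) (d := d)
    (e := e) (f := f) (by simpa using h1)
  exact Subtype.ext (by simp)

theorem sylow_equiv_of_inj' {T A : Type*} [Group T] [Group A] [Finite A] (f : T →* A)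
    (hf : Function.Injective f) {m : ℕ} (hT : Nat.card T = 2 ^ m) (hA : ¬ 2 ^ (m + 1) ∣ Nat.card A)
    (P : Sylow 2 A) : Nonempty (T ≃* P) := by
  have h1 : Nat.card f.range = 2 ^ m :=
    (Nat.card_congr (MonoidHom.ofInjective hf).toEquiv).symm.trans hT
  obtain ⟨P₀, hP⟩ := (IsPGroup.of_card h1).exists_le_sylow
  obtain ⟨j, hj⟩ := P₀.isPGroup'.exists_card_eq
  have h2 : j ≤ m := by
    by_contra h
    exact hA ((pow_dvd_pow 2 (by omega)).trans (hj ▸ card_subgroup_dvd_card _))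
  have h3 := eq_of_le_of_card_ge hP (by rw [h1, hj]; exact Nat.pow_le_pow_right two_pos h2)
  exact ⟨((MonoidHom.ofInjective hf).trans (MulEquiv.subgroupCongr h3)).trans (P₀.equiv P)⟩

/-- from data in `S` (noncentral `c`'s) to Sylow subgroups of `S / Z(S)` -/
theorem sylow_of_data {T S : Type*} [Group T] [Group S] [Finite S] {k0 k1 : ℕ}
    {x0 x1 y0 y1 c0 c1 : T} (x0' x1' y0' y1' c0' c1' g : S) (h : Data k0 k1 x0 x1 y0 y1 c0 c1)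
    (h' : Data k0 k1 x0' x1' y0' y1' c0' c1') (hT : closure ({x0, x1, y0, y1} : Set T) = ⊤)
    (hc : Nat.card T = 64) (n0 : g * c0' ≠ c0' * g) (n1 : g * c1' ≠ c1' * g)
    (n2 : g * (c0' * c1') ≠ c0' * c1' * g) (hS : ¬ 2 ^ 7 ∣ Nat.card (S ⧸ center S))
    (P : Sylow 2 (S ⧸ center S)) : Nonempty (T ≃* P) := by
  have k : ∀ c : S, g * c ≠ c * g → QuotientGroup.mk' (center S) c ≠ 1 := fun c hc h1 =>
    hc (mem_center_iff.1 ((QuotientGroup.eq_one_iff c).1 h1) g)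
  obtain ⟨f, hf⟩ := exists_inj h (h'.map (QuotientGroup.mk' (center S))) hT hc (k _ n0) (k _ n1)
    (by rw [← map_mul]; exact k _ n2)
  exact sylow_equiv_of_inj' f hf (m := 6) hc hS P

open CfH3 Matrix

theorem card_L34 : Nat.card (ProjectiveSpecialLinearGroup (Fin 3) F4) = 20160 := by
  have := card_PSL card_F4 (n := 3) (by norm_num)
  generalize Nat.card _ = N at this ⊢
  simp [Fin.prod_univ_three] at this
  omega

/-- unitriangular matrices -/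
def ut (a b c : F4) : SpecialLinearGroup (Fin 3) F4 :=
  ⟨!![1, a, c; 0, 1, b; 0, 0, 1], by simp [det_fin_three]⟩

/-- the matrix of an element of `SL` -/
def slM (F : Type*) [CommRing F] : SpecialLinearGroup (Fin 3) F →* Matrix (Fin 3) (Fin 3) F where
  toFun g := g.1
  map_one' := rfl
  map_mul' _ _ := rfl

theorem slM_inj (F : Type*) [CommRing F] : Function.Injective (slM F) := fun _ _ h => Subtype.ext h

theorem sylow_L34 {T : Type*} [Group T] {k0 : ℕ} (hk : k0 = 0 ∨ k0 = 1)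
    {x0 x1 y0 y1 c0 c1 : T} (h : Data k0 0 x0 x1 y0 y1 c0 c1)
    (hT : closure ({x0, x1, y0, y1} : Set T) = ⊤) (hc : Nat.card T = 64)
    (P : Sylow 2 (ProjectiveSpecialLinearGroup (Fin 3) F4)) : Nonempty (T ≃* P) := by
  let g : SpecialLinearGroup (Fin 3) F4 := ⟨!![0, 0, 1; 1, 0, 0; 0, 1, 0], by simp [det_fin_three]⟩
  have hS : ¬ 2 ^ 7 ∣ Nat.card (ProjectiveSpecialLinearGroup (Fin 3) F4) := by
    rw [card_L34]; decide
  have n0 : g * ut 0 0 1 ≠ ut 0 0 1 * g := fun e => absurd (congrArg (slM F4) e) (by decide)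
  have n1 : g * ut 0 0 ⟨1, 1⟩ ≠ ut 0 0 ⟨1, 1⟩ * g := fun e =>
    absurd (congrArg (slM F4) e) (by decide)
  have n2 : g * (ut 0 0 1 * ut 0 0 ⟨1, 1⟩) ≠ ut 0 0 1 * ut 0 0 ⟨1, 1⟩ * g := fun e =>
    absurd (congrArg (slM F4) e) (by decide)
  rcases hk with rfl | rfl
  · refine sylow_of_data (ut 0 1 0) (ut 0 ⟨0, 1⟩ 0) (ut 1 0 0) (ut ⟨0, 1⟩ 0 0) (ut 0 0 1)
      (ut 0 0 ⟨1, 1⟩) g h (Data.of_inj (slM F4) (slM_inj _) ?_) hT hc n0 n1 n2 hS P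
    refine ⟨?_, ?_, ?_, ?_, ?_, ?_, ⟨?_, ?_, ?_, ?_⟩, ⟨?_, ?_, ?_, ?_⟩, ?_, ?_, ?_, ?_, ?_, ?_, ?_⟩ <;>
      decide +kernel
  · refine sylow_of_data (ut 1 1 0) (ut ⟨0, 1⟩ ⟨0, 1⟩ 0) (ut ⟨0, 1⟩ ⟨1, 1⟩ 0) (ut ⟨1, 1⟩ 1 0)
      (ut 0 0 1) (ut 0 0 ⟨1, 1⟩) g h (Data.of_inj (slM F4) (slM_inj _) ?_) hT hc n0 n1 n2 hS P
    refine ⟨?_, ?_, ?_, ?_, ?_, ?_, ⟨?_, ?_, ?_, ?_⟩, ⟨?_, ?_, ?_, ?_⟩, ?_, ?_, ?_, ?_, ?_, ?_, ?_⟩ <;>
      decide +kernel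

instance instFactF16 : Fact (∀ r : F4, r ^ 2 ≠ (⟨0, 1⟩ : F4) + 1 * r) := ⟨by decide⟩

/-- The field with sixteen elements. -/
abbrev F16 : Type := QuadraticAlgebra F4 ⟨0, 1⟩ 1

instance instFintypeF16 : Fintype F16 := Fintype.ofEquiv _ (QuadraticAlgebra.equivProd _ _).symm

theorem card_F16 : Fintype.card F16 = 16 := by
  rw [Fintype.ofEquiv_card, Fintype.card_prod, card_F4]

theorem card_U34 : Nat.card (Cfsg.PSU 3 F16 4) = 62400 := by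
  have := card_PSU (q := 4) card_F16 (n := 3) (by norm_num)
  simp [Finset.prod_range_succ, Nat.even_iff] at this
  omega

/-- elements of `SU₃(4)` -/
def su (A : Matrix (Fin 3) (Fin 3) F16)
    (h : A 0 0 * A 1 1 * A 2 2 - A 0 0 * A 1 2 * A 2 1 - A 0 1 * A 1 0 * A 2 2 +
      A 0 1 * A 1 2 * A 2 0 + A 0 2 * A 1 0 * A 2 1 - A 0 2 * A 1 1 * A 2 0 = 1 ∧
      ∀ i j, ∑ k, A k i * A k j ^ 4 = if i = j then 1 else 0) : Cfsg.SU 3 F16 4 :=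
  ⟨⟨A, by rw [det_fin_three]; exact h.1⟩, mem_SU_of_cols (q := 4) card_F16 _ h.2⟩

/-- matrices of the shape used below -/
def um (a b c : F16) : Matrix (Fin 3) (Fin 3) F16 := !![a, a + 1, b; a + 1, a, b; c, c, 1]

theorem sylow_U34 {T : Type*} [Group T] {k0 : ℕ} (hk : k0 = 0 ∨ k0 = 1)
    {x0 x1 y0 y1 c0 c1 : T} (h : Data k0 1 x0 x1 y0 y1 c0 c1)
    (hT : closure ({x0, x1, y0, y1} : Set T) = ⊤) (hc : Nat.card T = 64)
    (P : Sylow 2 (Cfsg.PSU 3 F16 4)) : Nonempty (T ≃* P) := by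
  let m : Cfsg.SU 3 F16 4 →* Matrix (Fin 3) (Fin 3) F16 := (slM F16).comp (Subgroup.subtype _)
  have hm : Function.Injective m := (slM_inj _).comp Subtype.val_injective
  let g := su !![0, 0, 1; 0, 1, 0; 1, 0, 0] (by decide +kernel)
  have hS : ¬ 2 ^ 7 ∣ Nat.card (Cfsg.PSU 3 F16 4) := by
    rw [card_U34]; decide
  let X0 := su (um ⟨0, 1⟩ 1 1) (by decide +kernel)
  let Y0 := su (um ⟨0, 1⟩ ⟨⟨0, 1⟩, ⟨0, 1⟩⟩ ⟨0, ⟨0, 1⟩⟩) (by decide +kernel)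
  let C0 := su (um ⟨⟨1, 1⟩, 0⟩ 0 0) (by decide +kernel)
  rcases hk with rfl | rfl
  · refine sylow_of_data X0 (su (um ⟨0, ⟨1, 1⟩⟩ ⟨⟨0, 1⟩, 0⟩ ⟨⟨0, 1⟩, 0⟩) (by decide +kernel)) Y0
      (su (um ⟨0, ⟨1, 1⟩⟩ ⟨⟨1, 1⟩, ⟨1, 1⟩⟩ ⟨0, ⟨1, 1⟩⟩) (by decide +kernel)) C0
      (su (um 0 0 0) (by decide +kernel)) g h (Data.of_inj m hm ?_) hT hc
      (fun e => absurd (congrArg m e) (by decide +kernel))
      (fun e => absurd (congrArg m e) (by decide +kernel))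
      (fun e => absurd (congrArg m e) (by decide +kernel)) hS P
    refine ⟨?_, ?_, ?_, ?_, ?_, ?_, ⟨?_, ?_, ?_, ?_⟩, ⟨?_, ?_, ?_, ?_⟩, ?_, ?_, ?_, ?_, ?_, ?_, ?_⟩ <;>
      decide +kernel
  · refine sylow_of_data X0 (su (um ⟨0, ⟨0, 1⟩⟩ ⟨⟨1, 1⟩, 0⟩ ⟨⟨1, 1⟩, 0⟩) (by decide +kernel)) Y0
      (su (um ⟨0, ⟨0, 1⟩⟩ ⟨1, 1⟩ ⟨0, 1⟩) (by decide +kernel)) C0
      (su (um ⟨⟨0, 1⟩, 0⟩ 0 0) (by decide +kernel)) g h (Data.of_inj m hm ?_) hT hc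
      (fun e => absurd (congrArg m e) (by decide +kernel))
      (fun e => absurd (congrArg m e) (by decide +kernel))
      (fun e => absurd (congrArg m e) (by decide +kernel)) hS P
    refine ⟨?_, ?_, ?_, ?_, ?_, ?_, ⟨?_, ?_, ?_, ?_⟩, ⟨?_, ?_, ?_, ?_⟩, ?_, ?_, ?_, ?_, ?_, ?_, ?_⟩ <;>
      decide +kernel

end CfH2.Sp64
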